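import Groth.Agent.FibInj.Poly
import Groth.Agent.FlatSyz5.Kernel

/-!
# Maps injective on a fibre are universally injective near the point
-/

set_option autoImplicit false
set_option linter.style.haveILetI false

universe u

open TensorProduct

namespace Groth.Agent.FibInj

variable {A S : Type u} [CommRing A] [CommRing S] [Algebra A S] [Algebra.FinitePresentation A S]
  {N M : Type u} [AddCommGroup N] [Module S N] [Module.FinitePresentation S N]
  [AddCommGroup M] [Module S M] [Module.FinitePresentation S M] [Module A M] [IsScalarTower A S M]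

set_option maxHeartbeats 1000000 in
/-- A map injective on the fibre with flat target has, near the point, trivial kernel and flat cokernel. -/
theorem exists_flat_coker (u : N →ₗ[S] M) (q : Ideal S) [q.IsPrime]
    (hflat : Module.Flat A (LocalizedModule q.primeCompl M))
    (hinj : FibreInjective (q.comap (algebraMap A S)) q.primeCompl u) :
    ∃ g ∉ q, (∀ x, u x = 0 → ∃ k : ℕ, g ^ k • x = 0) ∧
      Module.Flat A (LocalizedModule (Submonoid.powers g) (M ⧸ LinearMap.range u)) := by
  obtain ⟨n, π, hπ, hker⟩ := Algebra.FinitePresentation.out (R := A) (A := S)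
  let P := MvPolynomial (Fin n) A
  letI : Algebra P S := π.toRingHom.toAlgebra
  haveI : IsScalarTower A P S := .of_algebraMap_eq fun a => (π.commutes a).symm
  letI : Module P N := Module.compHom N (algebraMap P S)
  letI : Module P M := Module.compHom M (algebraMap P S)
  haveI : IsScalarTower P S N := .of_algebraMap_smul fun _ _ => rfl
  haveI : IsScalarTower P S M := .of_algebraMap_smul fun _ _ => rfl
  letI : Module A N := Module.compHom N (algebraMap A P)
  haveI : IsScalarTower A P N := .of_algebraMap_smul fun _ _ => rfl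
  haveI : IsScalarTower A P M := .of_algebraMap_smul fun a m => by
    show algebraMap P S (algebraMap A P a) • m = a • m
    rw [← IsScalarTower.algebraMap_apply, algebraMap_smul]
  haveI : Module.FinitePresentation P S :=
    Module.finitePresentation_of_surjective (Algebra.linearMap P S) hπ hker
  haveI : Module.FinitePresentation P N := Module.FinitePresentation.trans _ N S
  haveI : Module.FinitePresentation P M := Module.FinitePresentation.trans _ M S
  let Q : Ideal P := q.comap (algebraMap P S)
  have hsm : ∀ {X : Type u} [AddCommGroup X] [Module S X] [Module P X] [IsScalarTower P S X] (p : Ideal A) (x : X),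
      x ∈ ((p.map (algebraMap A S)) • ⊤ : Submodule S X) ↔ x ∈ ((p.map (algebraMap A P)) • ⊤ : Submodule P X) := by
    intro X _ _ _ _ p x
    rw [IsScalarTower.algebraMap_eq A P S, ← Ideal.map_map, ← Submodule.restrictScalars_mem P,
      Ideal.smul_restrictScalars, Submodule.restrictScalars_top]
  have hQp : Q.comap (algebraMap A P) = q.comap (algebraMap A S) := by
    rw [Ideal.comap_comap, ← IsScalarTower.algebraMap_eq]
  have hW : ∀ s : S, s ∉ q → ∃ s' : P, s' ∉ Q ∧ algebraMap P S s' = s := fun s hs => by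
    obtain ⟨s', rfl⟩ := hπ s
    exact ⟨s', hs, rfl⟩
  have hflatP : Module.Flat A (LocalizedModule Q.primeCompl M) := by
    rw [FlatModel.flat_localized_iff Q.primeCompl (LocalizedModule.mkLinearMap _ M)]
    intro J y hy
    obtain ⟨s, hs, hsy⟩ := (FlatModel.flat_localized_iff q.primeCompl (LocalizedModule.mkLinearMap _ M)).1 hflat J y hy
    obtain ⟨s', hs', rfl⟩ := hW s hs
    refine ⟨s', hs', ?_⟩
    rw [← algebraMap_smul S]
    exact hsy
  have hinjP : FibreInjective (Q.comap (algebraMap A P)) Q.primeCompl (u.restrictScalars P) := by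
    rintro x ⟨s, hs, hsx⟩
    rw [hQp] at hsx ⊢
    rw [← hsm] at hsx
    obtain ⟨t, ht, htx⟩ := hinj x ⟨algebraMap P S s, hs, by rwa [algebraMap_smul]⟩
    obtain ⟨t', ht', rfl⟩ := hW t ht
    refine ⟨t', ht', ?_⟩
    rw [← hsm, ← algebraMap_smul S t' x]
    exact htx
  obtain ⟨g, hg, hk, hf⟩ := exists_flat_coker_poly (u.restrictScalars P) Q hflatP hinjP
  refine ⟨algebraMap P S g, hg, fun x hx => ?_, ?_⟩
  · obtain ⟨k, hk⟩ := hk x hx
    exact ⟨k, by rw [← map_pow, algebraMap_smul]; exact hk⟩
  · rw [FlatModel.flat_localized_iff (Submonoid.powers (algebraMap P S g)) (LocalizedModule.mkLinearMap _ _)]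
    intro J y hy
    let e : (M ⧸ LinearMap.range u) ≃ₗ[P] M ⧸ LinearMap.range (u.restrictScalars P) :=
      ((Submodule.quotEquivOfEq _ ((LinearMap.range u).restrictScalars P)
        (LinearMap.range_restrictScalars u)).trans (Submodule.Quotient.restrictScalarsEquiv P _)).symm
    let eJ : (M ⧸ LinearMap.range u) ⊗[A] J ≃ₗ[P] (M ⧸ LinearMap.range (u.restrictScalars P)) ⊗[A] J :=
      AlgebraTensorModule.congr e (LinearEquiv.refl A J)
    have hy' : J.subtype.lTensor _ (eJ y) = 0 := by
      have h : ∀ z, J.subtype.lTensor (M ⧸ LinearMap.range (u.restrictScalars P)) (eJ z) =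
          AlgebraTensorModule.congr e (LinearEquiv.refl A A) (J.subtype.lTensor _ z) := fun z => by
        induction z using TensorProduct.induction_on with
        | zero => simp
        | add a b ha hb => simp only [map_add, ha, hb]
        | tmul x j => simp [eJ]
      rw [h, hy, map_zero]
    obtain ⟨s, ⟨k, rfl⟩, hks⟩ :=
      (FlatModel.flat_localized_iff (Submonoid.powers g) (LocalizedModule.mkLinearMap _ _)).1 hf J (eJ y) hy'
    refine ⟨algebraMap P S g ^ k, ⟨k, rfl⟩, eJ.injective ?_⟩
    rw [← map_pow, algebraMap_smul, map_smul, map_zero]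
    exact hks

set_option maxHeartbeats 800000 in
/-- At a prime, injectivity with flat cokernel gives injectivity on the fibre. -/
theorem fibreInjective_of_flat_coker {N M : Type u} [AddCommGroup N] [Module S N] [AddCommGroup M] [Module S M]
    [Module A N] [IsScalarTower A S N] [Module A M] [IsScalarTower A S M] (u : N →ₗ[S] M) (W : Submonoid S)
    (hinj : ∀ x, u x = 0 → ∃ s ∈ W, s • x = 0) (hflat : Module.Flat A (LocalizedModule W (M ⧸ LinearMap.range u)))
    (p : Ideal A) : FibreInjective p W u := by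
  rintro x ⟨s, hs, hsx⟩
  let C := M ⧸ LinearMap.range u
  let c : M →ₗ[S] C := (LinearMap.range u).mkQ
  have hmem : s • u x ∈ ((p.map (algebraMap A S)) • ⊤ : Submodule S M).restrictScalars A := hsx
  rw [Ideal.smul_restrictScalars, Submodule.restrictScalars_top] at hmem
  obtain ⟨z, hz⟩ : ∃ z : M ⊗[A] p, TensorProduct.rid A M ((p : Submodule A A).subtype.lTensor M z) = s • u x := by
    refine Submodule.smul_induction_on hmem (fun r hr m _ => ⟨m ⊗ₜ ⟨r, hr⟩, ?_⟩) fun y z ⟨a, ha⟩ ⟨b, hb⟩ =>
      ⟨a + b, by rw [map_add, map_add, ha, hb]⟩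
    simp
  let cJ : M ⊗[A] p →ₗ[S] C ⊗[A] p := AlgebraTensorModule.rTensor A p c
  have hc : ∀ w, TensorProduct.rid A C ((p : Submodule A A).subtype.lTensor C (cJ w)) =
      c (TensorProduct.rid A M ((p : Submodule A A).subtype.lTensor M w)) := fun w => by
    induction w using TensorProduct.induction_on with
    | zero => simp
    | add a b ha hb => simp only [map_add, ha, hb]
    | tmul m j => simp [cJ, LinearMap.map_smul_of_tower]
  have h0 : (p : Submodule A A).subtype.lTensor C (cJ z) = 0 := (TensorProduct.rid A C).injective (by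
    rw [map_zero, hc, hz]
    exact (Submodule.Quotient.mk_eq_zero _).2 ⟨s • x, map_smul u s x⟩)
  obtain ⟨t, ht, htz⟩ := (FlatModel.flat_localized_iff W (LocalizedModule.mkLinearMap W C)).1 hflat p _ h0
  rw [← map_smul] at htz
  let uJ : N ⊗[A] p →ₗ[S] M ⊗[A] p := AlgebraTensorModule.rTensor A p u
  obtain ⟨w, hw⟩ := ((rTensor_exact p (f := u.restrictScalars A) (g := c.restrictScalars A)
    (LinearMap.exact_map_mkQ_range u) (Submodule.mkQ_surjective _)) (t • z)).1 htz
  let ev : ∀ (X : Type u) [AddCommGroup X] [Module A X], X ⊗[A] p →ₗ[A] X :=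
    fun X _ _ => (TensorProduct.rid A X).toLinearMap ∘ₗ (p : Submodule A A).subtype.lTensor X
  have hev : ∀ w, ev M ((u.restrictScalars A).rTensor p w) = u (ev N w) := fun w => by
    induction w using TensorProduct.induction_on with
    | zero => simp
    | add a b ha hb => simp only [map_add, ha, hb]
    | tmul m j => simp [ev, LinearMap.map_smul_of_tower]
  have hevsm : ∀ (t : S) (w : M ⊗[A] p), ev M (t • w) = t • ev M w := fun t w => by
    induction w using TensorProduct.induction_on with
    | zero => simp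
    | add a b ha hb => simp only [smul_add, map_add, ha, hb]
    | tmul m j => simp [ev, smul_tmul', smul_comm t]
  have hevmem : ev N w ∈ ((p.map (algebraMap A S)) • ⊤ : Submodule S N) := by
    clear hw
    induction w using TensorProduct.induction_on with
    | zero => simp
    | add a b ha hb => rw [map_add]; exact add_mem ha hb
    | tmul m j =>
      simp only [ev, LinearMap.comp_apply, LinearMap.lTensor_tmul, LinearEquiv.coe_coe, TensorProduct.rid_tmul,
        Submodule.subtype_apply]
      rw [← algebraMap_smul S (j : A) m]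
      exact Submodule.smul_mem_smul (Ideal.mem_map_of_mem _ j.2) trivial
  have hux : u ((t * s) • x - ev N w) = 0 := by
    rw [map_sub, ← hev, hw, hevsm, show ev M z = s • u x from hz, map_smul, mul_smul, sub_self]
  obtain ⟨r, hr, hrx⟩ := hinj _ hux
  refine ⟨r * (t * s), W.mul_mem hr (W.mul_mem ht hs), ?_⟩
  rw [smul_sub, sub_eq_zero] at hrx
  rw [mul_smul, hrx]
  exact Submodule.smul_mem _ _ hevmem

set_option maxHeartbeats 800000 in
/-- The locus of trivial kernel and flat cokernel is open. -/
theorem exists_nhd_of_flat_coker (u : N →ₗ[S] M) (q : Ideal S) [q.IsPrime]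
    (hinj : ∀ x, u x = 0 → ∃ s ∉ q, s • x = 0)
    (hflat : Module.Flat A (LocalizedModule q.primeCompl (M ⧸ LinearMap.range u))) :
    ∃ g ∉ q, ∀ W : Submonoid S, g ∈ W → (∀ x, u x = 0 → ∃ s ∈ W, s • x = 0) ∧
      Module.Flat A (LocalizedModule W (M ⧸ LinearMap.range u)) := by
  classical
  let C := M ⧸ LinearMap.range u
  haveI : Module.FinitePresentation S C :=
    Module.finitePresentation_of_surjective (LinearMap.range u).mkQ (Submodule.mkQ_surjective _)
      (by rw [Submodule.ker_mkQ]; exact Module.Finite.iff_fg.1 (Module.Finite.range u))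
  obtain ⟨g₁, hg₁, hflat₁⟩ := FlatModel.exists_flat_nhd (R := A) C q hflat
  let S' := Localization.Away g₁
  haveI : Algebra.FinitePresentation S S' := IsLocalization.Away.finitePresentation g₁
  haveI : Algebra.FinitePresentation A S' := Algebra.FinitePresentation.trans A S S'
  let W₁ := Submonoid.powers g₁
  let NW := LocalizedModule W₁ N
  let MW := LocalizedModule W₁ M
  let CW := LocalizedModule W₁ C
  let ℓN : N →ₗ[S] NW := LocalizedModule.mkLinearMap W₁ N
  let ℓM : M →ₗ[S] MW := LocalizedModule.mkLinearMap W₁ M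
  let ℓC : C →ₗ[S] CW := LocalizedModule.mkLinearMap W₁ C
  let uW : NW →ₗ[S'] MW := IsLocalizedModule.mapExtendScalars W₁ ℓN ℓM S' u
  let cW : MW →ₗ[S'] CW := IsLocalizedModule.mapExtendScalars W₁ ℓM ℓC S' (LinearMap.range u).mkQ
  haveI : Module.FinitePresentation S' NW := inferInstance
  haveI : Module.FinitePresentation S' MW := inferInstance
  haveI : Module.FinitePresentation S' CW := inferInstance
  haveI : Module.Flat A CW := hflat₁ W₁ (Submonoid.mem_powers g₁)
  have hcW : Function.Surjective cW :=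
    IsLocalizedModule.map_surjective W₁ ℓM ℓC (LinearMap.range u).mkQ (Submodule.mkQ_surjective _)
  have hex : Function.Exact uW cW :=
    IsLocalizedModule.map_exact W₁ ℓN ℓM ℓC u (LinearMap.range u).mkQ (LinearMap.exact_map_mkQ_range u)
  haveI := FlatSyz5.fp_ker_of_surjective (A := A) cW hcW
  let r : NW →ₗ[S'] LinearMap.ker cW := uW.codRestrict _ fun x => hex.apply_apply_eq_zero x
  have hr : Function.Surjective r := fun y => by
    obtain ⟨x, hx⟩ := (hex _).1 y.2
    exact ⟨x, Subtype.ext hx⟩
  obtain ⟨T, hT⟩ := Module.FinitePresentation.fg_ker r hr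
  have hkill : ∀ z ∈ T, ∃ s ∉ q, s • z = 0 := by
    intro z hz
    have hz0 : uW z = 0 := congrArg Subtype.val (hT.le (Submodule.subset_span hz) : r z = 0)
    obtain ⟨⟨x, t⟩, rfl⟩ := IsLocalizedModule.mk'_surjective W₁ ℓN z
    simp only [Function.uncurry_apply_pair, uW, IsLocalizedModule.mapExtendScalars_apply_apply,
      IsLocalizedModule.map_mk', IsLocalizedModule.mk'_eq_zero'] at hz0
    obtain ⟨⟨_, i, rfl⟩, hi⟩ := hz0
    obtain ⟨s, hs, hsx⟩ := hinj (g₁ ^ i • x) (by rw [map_smul]; exact hi)
    refine ⟨s * g₁ ^ i, Ideal.IsPrime.mul_notMem ‹_› hs fun h => hg₁ (Ideal.IsPrime.mem_of_pow_mem ‹_› i h), ?_⟩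
    rw [Function.uncurry_apply_pair, ← IsLocalizedModule.mk'_smul, mul_smul, hsx, IsLocalizedModule.mk'_zero]
  choose! s hs hsz using hkill
  let g₂ := ∏ z ∈ T, s z
  have hg₂ : g₂ ∉ q := fun h => by
    obtain ⟨z, hz, hzq⟩ := (Ideal.IsPrime.prod_mem_iff).1 h
    exact hs z hz hzq
  refine ⟨g₁ * g₂, Ideal.IsPrime.mul_notMem ‹_› hg₁ hg₂, fun W hW => ⟨fun x hx => ?_, ?_⟩⟩
  · have hx0 : r (ℓN x) = 0 := Subtype.ext (by
      show uW (ℓN x) = 0
      simp only [uW, IsLocalizedModule.mapExtendScalars_apply_apply, IsLocalizedModule.map_apply, hx, map_zero])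
    have hle : LinearMap.ker r ≤ LinearMap.ker (LinearMap.lsmul S' NW (algebraMap S S' g₂)) := by
      rw [← hT, Submodule.span_le]
      intro z hz
      show algebraMap S S' g₂ • z = 0
      obtain ⟨c, hc⟩ := Finset.dvd_prod_of_mem s hz
      rw [algebraMap_smul, show g₂ = s z * c from hc, mul_comm, mul_smul, hsz z hz, smul_zero]
    have h1 : ℓN (g₂ • x) = 0 := by
      rw [map_smul, ← algebraMap_smul S']
      exact hle hx0
    obtain ⟨⟨_, k, rfl⟩, hk⟩ := (IsLocalizedModule.eq_zero_iff W₁ ℓN).1 h1
    refine ⟨(g₁ * g₂) ^ (k + 1), pow_mem hW _, ?_⟩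
    rw [show (g₁ * g₂) ^ (k + 1) = g₁ * g₂ ^ k * (g₁ ^ k * g₂) by ring, mul_smul, mul_smul (g₁ ^ k)]
    rw [show g₁ ^ k • g₂ • x = 0 from hk, smul_zero]
  · rw [FlatModel.flat_localized_iff W (LocalizedModule.mkLinearMap _ C)]
    intro J y hy
    obtain ⟨t, ⟨k, rfl⟩, hky⟩ :=
      (FlatModel.flat_localized_iff W₁ (LocalizedModule.mkLinearMap _ C)).1 (hflat₁ W₁ (Submonoid.mem_powers g₁)) J y hy
    refine ⟨(g₁ * g₂) ^ k, pow_mem hW _, ?_⟩
    rw [show (g₁ * g₂) ^ k = g₂ ^ k * g₁ ^ k by ring, mul_smul, hky, smul_zero]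

end Groth.Agent.FibInj
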