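import Groth.Agent.FibInj.Main
import Groth.Agent.AssFiber.Basic
import Mathlib

/-!
# Sequences regular on a fibre
-/

set_option autoImplicit false
set_option linter.style.haveILetI false

universe u

open TensorProduct

namespace Groth.Agent.FibInj

section Fibre

variable {A B : Type u} [CommRing A] [CommRing B] [Algebra A B]
  {M : Type u} [AddCommGroup M] [Module B M] [Module A M] [IsScalarTower A B M]
  (p : Ideal A) [p.IsPrime]

variable (B M) in
/-- The map to the fibre. -/
noncomputable def toFibre : M →ₗ[B] M ⊗[A] p.ResidueField where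
  toFun m := m ⊗ₜ 1
  map_add' a b := add_tmul a b _
  map_smul' b m := (smul_tmul' b m _).symm

theorem toFibre_surj (z : M ⊗[A] p.ResidueField) : ∃ a ∉ p, ∃ m, a • z = toFibre B M p m := by
  induction z using TensorProduct.induction_on with
  | zero => exact ⟨1, fun h => ‹p.IsPrime›.ne_top ((Ideal.eq_top_iff_one _).2 h), 0, by simp⟩
  | tmul m c =>
    obtain ⟨⟨a, r⟩, h⟩ := (AssFiber.isLocalizedModule_residueField p).surj c
    obtain ⟨a, rfl⟩ := Ideal.Quotient.mk_surjective a
    refine ⟨r, r.2, a • m, ?_⟩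
    simp only [Submonoid.smul_def, LinearMap.coe_restrictScalars, Algebra.linearMap_apply] at h
    show _ = (a • m) ⊗ₜ[A] (1 : p.ResidueField)
    rw [← tmul_smul, h, smul_tmul, Algebra.smul_def, mul_one]
    exact congrArg _ (IsScalarTower.algebraMap_apply A (A ⧸ p) p.ResidueField a).symm
  | add x y hx hy =>
    obtain ⟨a, ha, m, hm⟩ := hx
    obtain ⟨b, hb, n, hn⟩ := hy
    refine ⟨a * b, Ideal.IsPrime.mul_notMem ‹_› ha hb, b • m + a • n, ?_⟩
    rw [smul_add, mul_comm, mul_smul, hm, mul_comm, mul_smul, hn, map_add,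
      LinearMap.map_smul_of_tower, LinearMap.map_smul_of_tower]

theorem toFibre_eq_zero {m : M} (hm : toFibre B M p m = 0) :
    ∃ a ∉ p, algebraMap A B a • m ∈ (p.map (algebraMap A B) • ⊤ : Submodule B M) := by
  haveI := AssFiber.isLocalizedModule_residueField p
  let g : (A ⧸ p) →ₗ[A] p.ResidueField := (Algebra.linearMap (A ⧸ p) p.ResidueField).restrictScalars A
  have h0 : AlgebraTensorModule.rTensor A M g ((1 : A ⧸ p) ⊗ₜ m) = 0 := by
    apply (TensorProduct.comm A _ _).injective
    simpa [g, toFibre] using hm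
  obtain ⟨⟨a, ha⟩, h⟩ := (IsLocalizedModule.eq_zero_iff p.primeCompl (AlgebraTensorModule.rTensor A M g)).1 h0
  refine ⟨a, ha, ?_⟩
  rw [algebraMap_smul]
  apply AssFiber.smul_mem_pN p M
  rw [← Submodule.Quotient.mk_eq_zero, Submodule.Quotient.mk_smul,
    ← TensorProduct.quotTensorEquivQuotSMul_mk_one_tmul p m, ← map_smul, LinearEquiv.map_eq_zero_iff]
  exact h

theorem toFibre_smul_top (r : M) (h : r ∈ (p.map (algebraMap A B) • ⊤ : Submodule B M)) :
    toFibre B M p r = 0 := by
  have h' := AssFiber.mem_smul_top_of_mem_pN p M h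
  refine Submodule.smul_induction_on h' (fun a ha n _ => ?_) fun x y hx hy => by rw [map_add, hx, hy, add_zero]
  show (a • n) ⊗ₜ[A] (1 : p.ResidueField) = 0
  rw [smul_tmul, Algebra.smul_def, mul_one, Ideal.algebraMap_residueField_eq_zero.2 ha, tmul_zero]

end Fibre

section Gen

variable {B X Y : Type u} [CommRing B] [AddCommGroup X] [Module B X] [AddCommGroup Y] [Module B Y]
  (W : Submonoid B) (f : X →ₗ[B] Y) (hf : ∀ y, ∃ s ∈ W, ∃ x, s • y = f x)

include hf in
theorem exists_smul_mem_smul_top (I : Ideal B) {y : Y} (hy : y ∈ (I • ⊤ : Submodule B Y)) :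
    ∃ s ∈ W, ∃ x ∈ (I • ⊤ : Submodule B X), s • y = f x := by
  refine Submodule.smul_induction_on hy (fun r hr n _ => ?_) ?_
  · obtain ⟨s, hs, x, hx⟩ := hf n
    exact ⟨s, hs, r • x, Submodule.smul_mem_smul hr trivial, by rw [map_smul, ← hx, smul_comm]⟩
  · rintro a b ⟨s, hs, x, hx, hax⟩ ⟨t, ht, z, hz, hbz⟩
    refine ⟨s * t, W.mul_mem hs ht, t • x + s • z, add_mem (Submodule.smul_mem _ _ hx) (Submodule.smul_mem _ _ hz), ?_⟩
    rw [smul_add, mul_comm, mul_smul, hax, mul_comm, mul_smul, hbz, map_add, map_smul, map_smul]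

theorem map_mem_smul_top (I : Ideal B) {x : X} (hx : x ∈ (I • ⊤ : Submodule B X)) :
    f x ∈ (I • ⊤ : Submodule B Y) :=
  Submodule.smul_top_le_comap_smul_top I f hx

end Gen

section Main

variable {A B : Type u} [CommRing A] [CommRing B] [Algebra A B]
  {M : Type u} [AddCommGroup M] [Module B M] [Module A M] [IsScalarTower A B M]
  (q : Ideal B) [q.IsPrime]

variable (M) in
/-- The map to the local fibre. -/
noncomputable def toLocFibre : M →ₗ[B] LocalizedModule q.primeCompl (M ⊗[A] (Ideal.ResidueField (q.comap (algebraMap A B)))) :=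
  LocalizedModule.mkLinearMap q.primeCompl _ ∘ₗ toFibre B M (q.comap (algebraMap A B))

theorem toLocFibre_surj (y : LocalizedModule q.primeCompl (M ⊗[A] (Ideal.ResidueField (q.comap (algebraMap A B))))) :
    ∃ s ∈ q.primeCompl, ∃ m, s • y = toLocFibre (A := A) M q m := by
  obtain ⟨⟨z, t⟩, ht⟩ := IsLocalizedModule.surj q.primeCompl (LocalizedModule.mkLinearMap q.primeCompl _) y
  obtain ⟨a, ha, m, hm⟩ := toFibre_surj (B := B) (q.comap (algebraMap A B)) z
  refine ⟨algebraMap A B a * t, q.primeCompl.mul_mem ha t.2, m, ?_⟩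
  rw [toLocFibre, LinearMap.comp_apply, ← hm, ← algebraMap_smul B a z, map_smul, ← ht, mul_smul]
  rfl

theorem toLocFibre_eq_zero {m : M} :
    toLocFibre (A := A) M q m = 0 ↔ ∃ s ∈ q.primeCompl, s • m ∈ (((q.comap (algebraMap A B)) : Ideal A).map (algebraMap A B) • ⊤ : Submodule B M) := by
  constructor
  · intro h
    obtain ⟨⟨s, hs⟩, hsm⟩ := (IsLocalizedModule.eq_zero_iff q.primeCompl (LocalizedModule.mkLinearMap q.primeCompl _)).1 h
    obtain ⟨a, ha, ham⟩ := toFibre_eq_zero (A := A) (B := B) (q.comap (algebraMap A B)) (m := s • m) (by rw [map_smul]; exact hsm)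
    exact ⟨algebraMap A B a * s, q.primeCompl.mul_mem ha hs, by rwa [mul_smul]⟩
  · rintro ⟨s, hs, hsm⟩
    refine (IsLocalizedModule.eq_zero_iff q.primeCompl (LocalizedModule.mkLinearMap q.primeCompl _)).2 ⟨⟨s, hs⟩, ?_⟩
    show s • toFibre B M (q.comap (algebraMap A B)) m = 0
    rw [← map_smul]
    exact toFibre_smul_top (q.comap (algebraMap A B)) _ hsm

omit [Module A M] [IsScalarTower A B M] in
theorem fibreInjective_quot (φY : Type u) [AddCommGroup φY] [Module B φY] (φ : M →ₗ[B] φY)
    (hsurj : ∀ y, ∃ s ∈ q.primeCompl, ∃ m, s • y = φ m)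
    (hker : ∀ m, φ m = 0 ↔ ∃ s ∈ q.primeCompl, s • m ∈ (((q.comap (algebraMap A B)) : Ideal A).map (algebraMap A B) • ⊤ : Submodule B M))
    (I : Ideal B) (b : B) (hb : IsSMulRegular (φY ⧸ (I • ⊤ : Submodule B φY)) b) :
    FibreInjective (q.comap (algebraMap A B)) q.primeCompl (LinearMap.lsmul B (M ⧸ (I • ⊤ : Submodule B M)) b) := by
  rintro x ⟨s, hs, hsx⟩
  obtain ⟨x, rfl⟩ := Submodule.Quotient.mk_surjective _ x
  let P : Ideal B := ((q.comap (algebraMap A B)) : Ideal A).map (algebraMap A B)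
  let π := (I • ⊤ : Submodule B M).mkQ
  have hmap : ∀ z : M, π z ∈ (P • ⊤ : Submodule B (M ⧸ (I • ⊤ : Submodule B M))) ↔
      ∃ y ∈ (P • ⊤ : Submodule B M), z - y ∈ (I • ⊤ : Submodule B M) := fun z => by
    have h : (P • ⊤ : Submodule B (M ⧸ (I • ⊤ : Submodule B M))) = (P • ⊤ : Submodule B M).map π := by
      rw [Submodule.map_smul'', Submodule.map_top, Submodule.range_mkQ]
    rw [h, Submodule.mem_map]
    exact exists_congr fun y => and_congr_right fun _ => eq_comm.trans (Submodule.Quotient.eq _)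
  have hsx' : π (s • b • x) ∈ (P • ⊤ : Submodule B (M ⧸ (I • ⊤ : Submodule B M))) := hsx
  obtain ⟨y, hy, hyx⟩ := (hmap _).1 hsx'
  have hy0 : φ y = 0 := (hker y).2 ⟨1, one_mem _, by rwa [one_smul]⟩
  have h1 := map_mem_smul_top φ I hyx
  rw [map_sub, hy0, sub_zero, map_smul, map_smul, smul_comm, ← Submodule.Quotient.mk_eq_zero,
    Submodule.Quotient.mk_smul] at h1
  have h2 : s • φ x ∈ (I • ⊤ : Submodule B φY) := (Submodule.Quotient.mk_eq_zero _).1 (hb.right_eq_zero_of_smul h1)
  obtain ⟨t, ht, z, hz, htz⟩ := exists_smul_mem_smul_top q.primeCompl φ hsurj I h2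
  obtain ⟨r, hr, hrz⟩ := (hker ((t * s) • x - z)).1 (by rw [map_sub, map_smul, mul_smul, htz, sub_self])
  refine ⟨r * (t * s), q.primeCompl.mul_mem hr (q.primeCompl.mul_mem ht hs), ?_⟩
  refine (hmap ((r * (t * s)) • x)).2 ⟨_, hrz, ?_⟩
  rw [smul_sub, mul_smul, sub_sub_cancel]
  exact Submodule.smul_mem _ r hz

set_option maxHeartbeats 800000 in
/-- A sequence injective on the fibres of the successive quotients of a module flat at `q`. -/
theorem flat_quotients [Algebra.FinitePresentation A B] [Module.FinitePresentation B M] (g : List B)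
    (hflat : Module.Flat A (LocalizedModule q.primeCompl M))
    (hfib : ∀ i (h : i < g.length),
      FibreInjective (q.comap (algebraMap A B)) q.primeCompl (LinearMap.lsmul B (M ⧸ (Ideal.ofList (g.take i) • ⊤ : Submodule B M)) g[i])) :
    (∀ i ≤ g.length, Module.Flat A (LocalizedModule q.primeCompl (M ⧸ (Ideal.ofList (g.take i) • ⊤ : Submodule B M)))) ∧
      ∀ i (h : i < g.length) (x : M), g[i] • x ∈ (Ideal.ofList (g.take i) • ⊤ : Submodule B M) →
        ∃ s ∈ q.primeCompl, s • x ∈ (Ideal.ofList (g.take i) • ⊤ : Submodule B M) := by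
  classical
  haveI hfp : ∀ i, Module.FinitePresentation B (M ⧸ (Ideal.ofList (g.take i) • ⊤ : Submodule B M)) := fun i =>
    Module.finitePresentation_of_surjective (Submodule.mkQ _) (Submodule.mkQ_surjective _) (by
      rw [Submodule.ker_mkQ]
      exact Submodule.FG.smul ⟨(g.take i).toFinset, by simp [Ideal.ofList]⟩ Module.Finite.fg_top)
  have step : ∀ i (h : i < g.length),
      Module.Flat A (LocalizedModule q.primeCompl (M ⧸ (Ideal.ofList (g.take i) • ⊤ : Submodule B M))) →
      (∀ x : M, g[i] • x ∈ (Ideal.ofList (g.take i) • ⊤ : Submodule B M) →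
        ∃ s ∈ q.primeCompl, s • x ∈ (Ideal.ofList (g.take i) • ⊤ : Submodule B M)) ∧
      Module.Flat A (LocalizedModule q.primeCompl (M ⧸ (Ideal.ofList (g.take (i + 1)) • ⊤ : Submodule B M))) := by
    intro i h hfl
    let N := M ⧸ (Ideal.ofList (g.take i) • ⊤ : Submodule B M)
    let π : M →ₗ[B] N := Submodule.mkQ _
    obtain ⟨c, hc, hk, hf⟩ := exists_flat_coker (A := A) (LinearMap.lsmul B N g[i]) q hfl (hfib i h)
    refine ⟨fun x hx => ?_, ?_⟩
    · obtain ⟨k, hk⟩ := hk (π x) ((Submodule.Quotient.mk_eq_zero _).2 hx)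
      exact ⟨c ^ k, fun hq => hc (Ideal.IsPrime.mem_of_pow_mem inferInstance k hq),
        (Submodule.Quotient.mk_eq_zero _).1 hk⟩
    · let C := N ⧸ LinearMap.range (LinearMap.lsmul B N g[i])
      have hC : Module.Flat A (LocalizedModule q.primeCompl C) := by
        rw [FlatModel.flat_localized_iff q.primeCompl (LocalizedModule.mkLinearMap q.primeCompl C)]
        intro J y hy
        obtain ⟨s, hs, hsy⟩ :=
          (FlatModel.flat_localized_iff (Submonoid.powers c) (LocalizedModule.mkLinearMap (Submonoid.powers c) C)).1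
            hf J y hy
        exact ⟨s, Submonoid.powers_le.2 (show c ∈ q.primeCompl from hc) hs, hsy⟩
      have hrange : LinearMap.range (LinearMap.lsmul B N g[i]) = (Ideal.span {g[i]} • ⊤ : Submodule B M).map π := by
        rw [Submodule.map_smul'', Submodule.map_top, Submodule.range_mkQ, Submodule.ideal_span_singleton_smul]
        exact LinearMap.range_eq_map _
      let e : C ≃ₗ[B] M ⧸ (Ideal.ofList (g.take (i + 1)) • ⊤ : Submodule B M) :=
        (Submodule.quotEquivOfEq _ _ hrange).trans <| (Submodule.quotientQuotientEquivQuotientSup _ _).trans <|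
          Submodule.quotEquivOfEq _ _ (by
            rw [List.take_succ_eq_append_getElem h, Ideal.ofList_append, Ideal.ofList_singleton, Submodule.sup_smul])
      exact Module.Flat.of_linearEquiv
        ((IsLocalizedModule.mapEquiv q.primeCompl (LocalizedModule.mkLinearMap q.primeCompl C) (LocalizedModule.mkLinearMap q.primeCompl _)
          (Localization q.primeCompl) e).restrictScalars A).symm
  have all : ∀ i ≤ g.length, Module.Flat A (LocalizedModule q.primeCompl (M ⧸ (Ideal.ofList (g.take i) • ⊤ : Submodule B M))) := by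
    intro i
    induction i with
    | zero =>
      intro _
      let e : (M ⧸ (Ideal.ofList (g.take 0) • ⊤ : Submodule B M)) ≃ₗ[B] M :=
        Submodule.quotEquivOfEqBot _ (by rw [List.take_zero, Ideal.ofList_nil, Submodule.bot_smul])
      exact Module.Flat.of_linearEquiv
        ((IsLocalizedModule.mapEquiv q.primeCompl (LocalizedModule.mkLinearMap q.primeCompl _) (LocalizedModule.mkLinearMap q.primeCompl M)
          (Localization q.primeCompl) e).restrictScalars A)
    | succ i ih => intro hi; exact (step i hi (ih (Nat.le_of_succ_le hi))).2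
  exact ⟨all, fun i h => (step i h (all i (Nat.le_of_lt h))).1⟩

omit [Module A M] [IsScalarTower A B M] in
theorem isSMulRegular_of_fibreInjective (φY : Type u) [AddCommGroup φY] [Module B φY] (φ : M →ₗ[B] φY)
    (hsurj : ∀ y, ∃ s ∈ q.primeCompl, ∃ m, s • y = φ m)
    (hker : ∀ m, φ m = 0 ↔ ∃ s ∈ q.primeCompl,
      s • m ∈ ((q.comap (algebraMap A B) : Ideal A).map (algebraMap A B) • ⊤ : Submodule B M))
    (hunit : ∀ (I : Ideal B) (y : φY), ∀ s ∈ q.primeCompl,
      s • y ∈ (I • ⊤ : Submodule B φY) → y ∈ (I • ⊤ : Submodule B φY))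
    (I : Ideal B) (b : B)
    (hb : FibreInjective (q.comap (algebraMap A B)) q.primeCompl
      (LinearMap.lsmul B (M ⧸ (I • ⊤ : Submodule B M)) b)) :
    IsSMulRegular (φY ⧸ (I • ⊤ : Submodule B φY)) b := by
  refine IsSMulRegular.of_right_eq_zero_of_smul fun y hy => ?_
  obtain ⟨y, rfl⟩ := Submodule.Quotient.mk_surjective _ y
  rw [← Submodule.Quotient.mk_smul, Submodule.Quotient.mk_eq_zero] at hy
  rw [Submodule.Quotient.mk_eq_zero]
  obtain ⟨s, hs, x, hx⟩ := hsurj y
  have h1 : φ (b • x) ∈ (I • ⊤ : Submodule B φY) := by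
    rw [map_smul, ← hx, smul_comm]; exact Submodule.smul_mem _ _ hy
  obtain ⟨t, ht, w, hw, htw⟩ := exists_smul_mem_smul_top q.primeCompl φ hsurj I h1
  obtain ⟨r, hr, hrw⟩ := (hker (t • b • x - w)).1 (by rw [map_sub, map_smul, htw, sub_self])
  let P : Ideal B := (q.comap (algebraMap A B) : Ideal A).map (algebraMap A B)
  let π := (I • ⊤ : Submodule B M).mkQ
  have hπ : ∀ z, z ∈ (P • ⊤ : Submodule B M) → π z ∈ (P • ⊤ : Submodule B (M ⧸ (I • ⊤ : Submodule B M))) :=
    fun z hz => map_mem_smul_top π P hz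
  have hw0 : π w = 0 := (Submodule.Quotient.mk_eq_zero _).2 hw
  obtain ⟨c, hc, hcx⟩ := hb (π x) ⟨r * t, q.primeCompl.mul_mem hr ht, by
    have h := hπ _ hrw
    rwa [map_smul, map_sub, hw0, sub_zero, map_smul, map_smul, ← mul_smul] at h⟩
  have hmap : (P • ⊤ : Submodule B (M ⧸ (I • ⊤ : Submodule B M))) = (P • ⊤ : Submodule B M).map π := by
    rw [Submodule.map_smul'', Submodule.map_top, Submodule.range_mkQ]
  rw [← map_smul] at hcx
  rw [hmap] at hcx
  obtain ⟨z, hz, hzx⟩ := hcx
  have h2 := map_mem_smul_top φ I ((Submodule.Quotient.eq _).1 hzx)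
  rw [map_sub, (hker z).2 ⟨1, one_mem _, by rwa [one_smul]⟩, zero_sub, Submodule.neg_mem_iff, map_smul, ← hx,
    smul_smul] at h2
  exact hunit I y _ (q.primeCompl.mul_mem hc hs) h2

set_option maxHeartbeats 800000 in
/-- Openness of injectivity on the fibres of the successive quotients. -/
theorem exists_nhd_fibreInjective [Algebra.FinitePresentation A B] [Module.FinitePresentation B M] (g : List B)
    (hflat : Module.Flat A (LocalizedModule q.primeCompl M))
    (hfib : ∀ i (h : i < g.length), FibreInjective (q.comap (algebraMap A B)) q.primeCompl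
      (LinearMap.lsmul B (M ⧸ (Ideal.ofList (g.take i) • ⊤ : Submodule B M)) g[i])) :
    ∃ c ∉ q, ∀ (q' : Ideal B) (_ : q'.IsPrime), c ∉ q' → ∀ i (h : i < g.length),
      FibreInjective (q'.comap (algebraMap A B)) q'.primeCompl
        (LinearMap.lsmul B (M ⧸ (Ideal.ofList (g.take i) • ⊤ : Submodule B M)) g[i]) := by
  classical
  obtain ⟨hfl, hk⟩ := flat_quotients q g hflat hfib
  haveI hfp : ∀ i, Module.FinitePresentation B (M ⧸ (Ideal.ofList (g.take i) • ⊤ : Submodule B M)) := fun i =>
    Module.finitePresentation_of_surjective (Submodule.mkQ _) (Submodule.mkQ_surjective _) (by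
      rw [Submodule.ker_mkQ]
      exact Submodule.FG.smul ⟨(g.take i).toFinset, by simp [Ideal.ofList]⟩ Module.Finite.fg_top)
  have key : ∀ i : Fin g.length, ∃ c ∉ q, ∀ (q' : Ideal B) (_ : q'.IsPrime), c ∉ q' →
      FibreInjective (q'.comap (algebraMap A B)) q'.primeCompl
        (LinearMap.lsmul B (M ⧸ (Ideal.ofList (g.take i.1) • ⊤ : Submodule B M)) g[i.1]) := by
    rintro ⟨i, h⟩
    let N := M ⧸ (Ideal.ofList (g.take i) • ⊤ : Submodule B M)
    let π : M →ₗ[B] N := Submodule.mkQ _
    have hrange : LinearMap.range (LinearMap.lsmul B N g[i]) = (Ideal.span {g[i]} • ⊤ : Submodule B M).map π := by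
      rw [Submodule.map_smul'', Submodule.map_top, Submodule.range_mkQ, Submodule.ideal_span_singleton_smul]
      exact LinearMap.range_eq_map _
    let e : (N ⧸ LinearMap.range (LinearMap.lsmul B N g[i])) ≃ₗ[B]
        M ⧸ (Ideal.ofList (g.take (i + 1)) • ⊤ : Submodule B M) :=
      (Submodule.quotEquivOfEq _ _ hrange).trans <| (Submodule.quotientQuotientEquivQuotientSup _ _).trans <|
        Submodule.quotEquivOfEq _ _ (by
          rw [List.take_succ_eq_append_getElem h, Ideal.ofList_append, Ideal.ofList_singleton, Submodule.sup_smul])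
    haveI := hfl (i + 1) h
    obtain ⟨c, hc, hW⟩ := exists_nhd_of_flat_coker (A := A) (LinearMap.lsmul B N g[i]) q
      (fun z hz => by
        obtain ⟨x, rfl⟩ := Submodule.Quotient.mk_surjective _ z
        obtain ⟨s, hs, hsx⟩ := hk i h x ((Submodule.Quotient.mk_eq_zero _).1 hz)
        exact ⟨s, hs, (Submodule.Quotient.mk_eq_zero _).2 hsx⟩)
      (Module.Flat.of_linearEquiv ((IsLocalizedModule.mapEquiv q.primeCompl
        (LocalizedModule.mkLinearMap q.primeCompl _) (LocalizedModule.mkLinearMap q.primeCompl _)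
        (Localization q.primeCompl) e).restrictScalars A))
    refine ⟨c, hc, fun q' hq' hcq' => ?_⟩
    obtain ⟨h1, h2⟩ := hW q'.primeCompl hcq'
    exact fibreInjective_of_flat_coker _ _ h1 h2 _
  choose c hc hcW using key
  refine ⟨∏ i, c i, fun h => ?_, fun q' hq' hcq' i h => hcW ⟨i, h⟩ q' hq' fun hm => hcq' ?_⟩
  · obtain ⟨i, -, hi⟩ := (Ideal.IsPrime.prod_mem_iff).1 h
    exact hc i hi
  · exact Ideal.mem_of_dvd _ (Finset.dvd_prod_of_mem c (Finset.mem_univ _)) hm

end Main

end Groth.Agent.FibInj
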