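import Groth.Agent.FlatLimHx.Alg
import Groth.Agent.FlatSyz5.Kernel
import Mathlib

/-!
# Injective maps with flat cokernel along directed colimits of rings
-/

set_option autoImplicit false
set_option linter.style.haveILetI false

universe u

open TensorProduct

namespace Groth.Agent.FibInj

variable {R : Type u} [CommRing R] {S : Type u} [CommRing S] [Algebra R S]
  {N M : Type u} [AddCommGroup N] [Module S N] [Module R N] [IsScalarTower R S N]
  [AddCommGroup M] [Module S M] [Module R M] [IsScalarTower R S M] (u : N →ₗ[S] M)

omit [IsScalarTower R S N] in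
theorem exact_lTensor_range (A : Type u) [CommRing A] [Algebra R A] [Module R N] [IsScalarTower R S N] :
    Function.Exact ((u.restrictScalars R).lTensor A) (((LinearMap.range u).mkQ.restrictScalars R).lTensor A) :=
  lTensor_exact A (f := u.restrictScalars R) (g := (LinearMap.range u).mkQ.restrictScalars R)
    (LinearMap.exact_map_mkQ_range u) (Submodule.mkQ_surjective _)

/-- Injectivity with flat cokernel is stable under base change. -/
theorem injective_lTensor_of_flat (hu : Function.Injective u) [Module.Flat R (M ⧸ LinearMap.range u)]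
    (A : Type u) [CommRing A] [Algebra R A] : Function.Injective ((u.restrictScalars R).lTensor A) :=
  LinearMap.lTensor_injective_of_exact_of_flat ((LinearMap.range u).mkQ.restrictScalars R)
    (Submodule.mkQ_surjective _) (u.restrictScalars R) hu (LinearMap.exact_map_mkQ_range u) A

/-- With flat cokernel, injectivity in a colimit holds at a stage. -/
theorem exists_injective_stage [Algebra.FinitePresentation R S] [Module.FinitePresentation S N]
    [Module.FinitePresentation S M] [Module.Flat R (M ⧸ LinearMap.range u)]
    {ι : Type u} [Preorder ι] {G : ι → Type u} [∀ i, CommRing (G i)] [∀ i, Algebra R (G i)]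
    {g : ∀ i j, i ≤ j → G i →ₐ[R] G j} {A : Type u} [CommRing A] [Algebra R A] {a : ∀ i, G i →ₐ[R] A}
    (h : FlatLimHx.IsColim g a) (hA : Function.Injective ((u.restrictScalars R).lTensor A)) :
    ∃ j, Function.Injective ((u.restrictScalars R).lTensor (G j)) := by
  classical
  haveI := h.dir
  haveI := h.ne
  let C := M ⧸ LinearMap.range u
  haveI : Module.FinitePresentation S C :=
    Module.finitePresentation_of_surjective (LinearMap.range u).mkQ (Submodule.mkQ_surjective _)
      (by rw [Submodule.ker_mkQ]; exact Module.Finite.iff_fg.1 (Module.Finite.range u))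
  haveI : Module.FinitePresentation S (LinearMap.ker (LinearMap.range u).mkQ) :=
    FlatSyz5.fp_ker_of_surjective (A := R) (LinearMap.range u).mkQ (Submodule.mkQ_surjective _)
  let r : N →ₗ[S] LinearMap.ker (LinearMap.range u).mkQ :=
    u.codRestrict _ fun x => (Submodule.Quotient.mk_eq_zero _).2 ⟨x, rfl⟩
  have hr : Function.Surjective r := fun y => by
    obtain ⟨x, hx⟩ := (Submodule.Quotient.mk_eq_zero _).1 y.2
    exact ⟨x, Subtype.ext hx⟩
  obtain ⟨T, hT⟩ := Module.FinitePresentation.fg_ker r hr
  obtain ⟨i₀⟩ := h.ne
  have hb : ∀ t ∈ T, ∃ j, ∀ k, j ≤ k → ((1 : G k) ⊗ₜ[R] t : G k ⊗[R] N) = 0 := fun t ht => by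
    have hu0 : u t = 0 := congrArg Subtype.val (hT.le (Submodule.subset_span ht) : r t = 0)
    obtain ⟨j, hij, hj⟩ := h.exists_eq_zero N ((1 : G i₀) ⊗ₜ[R] t) (hA (by
      rw [LinearMap.rTensor_tmul, AlgHom.toLinearMap_apply, map_one, LinearMap.lTensor_tmul]
      simp [hu0]))
    refine ⟨j, fun k hk => ?_⟩
    rw [LinearMap.rTensor_tmul, AlgHom.toLinearMap_apply, map_one] at hj
    have := congrArg ((g j k hk).toLinearMap.rTensor N) hj
    rwa [map_zero, LinearMap.rTensor_tmul, AlgHom.toLinearMap_apply, map_one] at this
  choose! b hb using hb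
  obtain ⟨k, hk⟩ := h.upper T b
  refine ⟨k, (injective_iff_map_eq_zero _).2 fun z hz => ?_⟩
  let K := LinearMap.ker u
  have hzero : (K.subtype.restrictScalars R).lTensor (G k) = 0 := by
    refine TensorProduct.ext' fun c x => ?_
    rw [LinearMap.zero_apply, LinearMap.lTensor_tmul]
    show c ⊗ₜ[R] (x : N) = 0
    have hx : (x : N) ∈ Submodule.span S (T : Set N) := by
      rw [hT, LinearMap.mem_ker]
      exact Subtype.ext x.2
    generalize (x : N) = n at hx ⊢
    induction hx using Submodule.span_induction generalizing c with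
    | mem t ht =>
      rw [show c ⊗ₜ[R] t = (LinearMap.mulLeft R c).rTensor N ((1 : G k) ⊗ₜ[R] t) by
        rw [LinearMap.rTensor_tmul, LinearMap.mulLeft_apply, mul_one], hb t ht k (hk t ht), map_zero]
    | zero => rw [tmul_zero]
    | add p q _ _ hp hq => rw [tmul_add, hp, hq, add_zero]
    | smul s p _ hp =>
      rw [show c ⊗ₜ[R] (s • p) = ((LinearMap.lsmul S N s).restrictScalars R).lTensor (G k) (c ⊗ₜ[R] p) by simp,
        hp, map_zero]
  -- the map to the image is exact, and the image stays injective
  let I := LinearMap.ker (LinearMap.range u).mkQ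
  have hI : Function.Injective ((I.subtype.restrictScalars R).lTensor (G k)) :=
    LinearMap.lTensor_injective_of_exact_of_flat ((LinearMap.range u).mkQ.restrictScalars R)
      (Submodule.mkQ_surjective _) (I.subtype.restrictScalars R) Subtype.val_injective
      (LinearMap.exact_subtype_ker_map _) (G k)
  have hcomp : u.restrictScalars R = (I.subtype.restrictScalars R) ∘ₗ (r.restrictScalars R) := rfl
  rw [hcomp, LinearMap.lTensor_comp, LinearMap.comp_apply] at hz
  have hz' : (r.restrictScalars R).lTensor (G k) z = 0 := hI (hz.trans (map_zero _).symm)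
  have hex : Function.Exact (K.subtype.restrictScalars R) (r.restrictScalars R) := fun x => by
    refine ⟨fun hx => ⟨⟨x, congrArg Subtype.val hx⟩, rfl⟩, ?_⟩
    rintro ⟨y, rfl⟩
    exact Subtype.ext y.2
  obtain ⟨w, rfl⟩ := (lTensor_exact (G k) hex hr z).1 hz'
  rw [hzero, LinearMap.zero_apply]

end Groth.Agent.FibInj
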