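import Groth.Agent.FibInj.Good
import Groth.Agent.FibInj.LimitAlg
import Groth.Agent.FlatPureHx.UnivInj

/-!
# Injective with flat cokernel on affine squares
-/

set_option autoImplicit false
set_option linter.style.haveILetI false

universe u

open CategoryTheory CategoryTheory.Limits AlgebraicGeometry Groth.Agent TensorProduct

namespace Groth.Agent.FibInj

theorem exists_primeIdealOf {X : Scheme.{u}} [IsAffine X] (p : PrimeSpectrum Γ(X, ⊤)) :
    ∃ x : X, (isAffineOpen_top X).primeIdealOf ⟨x, trivial⟩ = p := by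
  refine ⟨(isAffineOpen_top X).fromSpec p, (isAffineOpen_top X).fromSpec.isOpenEmbedding.injective ?_⟩
  exact (isAffineOpen_top X).fromSpec_primeIdealOf ⟨_, trivial⟩

variable {X Y : Scheme.{u}} [IsAffine X] [IsAffine Y] (f : X ⟶ Y)

/-- Good at every point of an affine scheme. -/
theorem forall_good_iff {F G : X.Modules} (hF : Coh.IsQCoh F) (hG : Coh.IsQCoh G) (h : F ⟶ G) :
    letI : Algebra Γ(Y, ⊤) Γ(X, ⊤) := (f.appLE ⊤ ⊤ le_top).hom.toAlgebra
    letI : Module Γ(Y, ⊤) Γ(G, ⊤) := Module.compHom _ (f.appLE ⊤ ⊤ le_top).hom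
    haveI : IsScalarTower Γ(Y, ⊤) Γ(X, ⊤) Γ(G, ⊤) := IsScalarTower.of_algebraMap_smul fun _ _ => rfl
    ((∀ x, Good f h x) ↔ Function.Injective (uU (U := (⊤ : X.Opens)) h) ∧
      Module.Flat Γ(Y, ⊤) (Γ(G, ⊤) ⧸ LinearMap.range (uU (U := (⊤ : X.Opens)) h))) := by
  letI : Algebra Γ(Y, ⊤) Γ(X, ⊤) := (f.appLE ⊤ ⊤ le_top).hom.toAlgebra
  letI : Module Γ(Y, ⊤) Γ(G, ⊤) := Module.compHom _ (f.appLE ⊤ ⊤ le_top).hom
  haveI : IsScalarTower Γ(Y, ⊤) Γ(X, ⊤) Γ(G, ⊤) := IsScalarTower.of_algebraMap_smul fun _ _ => rfl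
  let U := isAffineOpen_top X
  let C := Γ(G, ⊤) ⧸ LinearMap.range (uU (U := (⊤ : X.Opens)) h)
  constructor
  · intro hg
    refine ⟨(injective_iff_map_eq_zero _).2 fun m hm => ?_, ?_⟩
    · let J : Ideal Γ(X, ⊤) := LinearMap.ker (LinearMap.toSpanSingleton Γ(X, ⊤) Γ(F, ⊤) m)
      have hJ : J = ⊤ := by
        by_contra hne
        obtain ⟨p, hp, hle⟩ := Ideal.exists_le_maximal J hne
        obtain ⟨x, hx⟩ := exists_primeIdealOf ⟨p, hp.isPrime⟩
        obtain ⟨s, hs, hsm⟩ := (injective_iff h x U trivial hF hG).1 (hg x).1 m hm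
        rw [hx] at hs
        exact hs (hle hsm)
      have h1 : (1 : Γ(X, ⊤)) ∈ J := hJ ▸ trivial
      simpa [J] using h1
    · rw [Module.Flat.iff_lTensor_injective']
      intro J
      rw [injective_iff_map_eq_zero]
      intro y hy
      let Ann : Ideal Γ(X, ⊤) := LinearMap.ker (LinearMap.toSpanSingleton Γ(X, ⊤) (C ⊗[Γ(Y, ⊤)] J) y)
      have hA : Ann = ⊤ := by
        by_contra hne
        obtain ⟨p, hp, hle⟩ := Ideal.exists_le_maximal Ann hne
        obtain ⟨x, hx⟩ := exists_primeIdealOf ⟨p, hp.isPrime⟩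
        have hfl := (flat_coker_iff f h x U (isAffineOpen_top Y) le_top trivial hF hG).1 (hg x).2
        obtain ⟨s, hs, hsy⟩ :=
          (FlatModel.flat_localized_iff (U.primeIdealOf ⟨x, trivial⟩).asIdeal.primeCompl
            (LocalizedModule.mkLinearMap (U.primeIdealOf ⟨x, trivial⟩).asIdeal.primeCompl C)).1
            hfl J y hy
        rw [hx] at hs
        exact hs (hle hsy)
      have h1 : (1 : Γ(X, ⊤)) ∈ Ann := hA ▸ trivial
      simpa [Ann] using h1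
  · rintro ⟨hi, hf⟩ x
    refine ⟨(injective_iff h x U trivial hF hG).2 fun m hm =>
      ⟨1, (Ideal.ne_top_iff_one _).1 (Ideal.IsPrime.ne_top inferInstance),
        by rw [one_smul]; exact hi (hm.trans (map_zero _).symm)⟩,
      (flat_coker_iff f h x U (isAffineOpen_top Y) le_top trivial hF hG).2 ?_⟩
    haveI : Module.Flat Γ(Y, ⊤) C := hf
    exact QCoh.flat_base_of_isLocalizedModule (U.primeIdealOf ⟨x, trivial⟩).asIdeal.primeCompl
      (LocalizedModule.mkLinearMap (U.primeIdealOf ⟨x, trivial⟩).asIdeal.primeCompl C)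

variable {X₀ Y₀ : Scheme.{u}} [IsAffine X₀] [IsAffine Y₀]

theorem appLE_top_eq {Z W : Scheme.{u}} (q : Z ⟶ W) : q.appLE ⊤ ⊤ le_top = q.appTop :=
  Scheme.Hom.appLE_eq_app (f := q)

omit [IsAffine X] [IsAffine X₀] in
theorem uU_pullSec (q : X ⟶ X₀) {F G : X₀.Modules} (h : F ⟶ G) (m : Γ(F, ⊤)) :
    uU (U := (⊤ : X.Opens)) ((Scheme.Modules.pullback q).map h) (QCoh.pullSec q F le_top m) =
      QCoh.pullSec q G le_top (uU (U := (⊤ : X₀.Opens)) h m) := by
  have h1 := congr(($((Scheme.Modules.pullbackPushforwardAdjunction q).unit.naturality h)).app ⊤ m)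
  have h2 := (((Scheme.Modules.pullback q).map h).mapPresheaf.naturality
    (homOfLE (le_top : (⊤ : X.Opens) ≤ q ⁻¹ᵁ ⊤)).op)
  have h3 := congr($h2 (((Scheme.Modules.pullbackPushforwardAdjunction q).unit.app F).app ⊤ m))
  unfold QCoh.pullSec
  exact h3.trans (congrArg _ h1.symm)

set_option maxHeartbeats 1000000 in
/-- Injectivity and flatness of the cokernel of an affine base change, on sections. -/
theorem pullback_sections_iff (f₀ : X₀ ⟶ Y₀) (qY : Y ⟶ Y₀) (qX : X ⟶ X₀) (H : IsPullback qX f f₀ qY)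
    {F G : X₀.Modules} (hF : Coh.IsQCoh F) (hG : Coh.IsQCoh G) (h : F ⟶ G) :
    letI : Algebra Γ(Y₀, ⊤) Γ(X₀, ⊤) := (f₀.appLE ⊤ ⊤ le_top).hom.toAlgebra
    letI : Algebra Γ(Y₀, ⊤) Γ(Y, ⊤) := (qY.appLE ⊤ ⊤ le_top).hom.toAlgebra
    letI : Module Γ(Y₀, ⊤) Γ(F, ⊤) := Module.compHom _ (f₀.appLE ⊤ ⊤ le_top).hom
    letI : Module Γ(Y₀, ⊤) Γ(G, ⊤) := Module.compHom _ (f₀.appLE ⊤ ⊤ le_top).hom
    haveI : IsScalarTower Γ(Y₀, ⊤) Γ(X₀, ⊤) Γ(F, ⊤) := IsScalarTower.of_algebraMap_smul fun _ _ => rfl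
    haveI : IsScalarTower Γ(Y₀, ⊤) Γ(X₀, ⊤) Γ(G, ⊤) := IsScalarTower.of_algebraMap_smul fun _ _ => rfl
    letI : Module Γ(Y, ⊤) Γ((Scheme.Modules.pullback qX).obj G, ⊤) := Module.compHom _ (f.appLE ⊤ ⊤ le_top).hom
    letI : Algebra Γ(Y, ⊤) Γ(X, ⊤) := (f.appLE ⊤ ⊤ le_top).hom.toAlgebra
    haveI : IsScalarTower Γ(Y, ⊤) Γ(X, ⊤) Γ((Scheme.Modules.pullback qX).obj G, ⊤) :=
      IsScalarTower.of_algebraMap_smul fun _ _ => rfl
    ((Function.Injective (uU (U := (⊤ : X.Opens)) ((Scheme.Modules.pullback qX).map h)) ↔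
        Function.Injective (((uU (U := (⊤ : X₀.Opens)) h).restrictScalars Γ(Y₀, ⊤)).lTensor Γ(Y, ⊤))) ∧
      (Module.Flat Γ(Y, ⊤) (Γ((Scheme.Modules.pullback qX).obj G, ⊤) ⧸
          LinearMap.range (uU (U := (⊤ : X.Opens)) ((Scheme.Modules.pullback qX).map h))) ↔
        Module.Flat Γ(Y, ⊤) (Γ(Y, ⊤) ⊗[Γ(Y₀, ⊤)] (Γ(G, ⊤) ⧸ LinearMap.range (uU (U := (⊤ : X₀.Opens)) h))))) := by
  let R := Γ(Y₀, ⊤)
  let S := Γ(X₀, ⊤)
  let A := Γ(Y, ⊤)
  let S' := Γ(X, ⊤)
  letI : Algebra R S := (f₀.appLE ⊤ ⊤ le_top).hom.toAlgebra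
  letI : Algebra R A := (qY.appLE ⊤ ⊤ le_top).hom.toAlgebra
  letI : Module R Γ(F, ⊤) := Module.compHom _ (f₀.appLE ⊤ ⊤ le_top).hom
  letI : Module R Γ(G, ⊤) := Module.compHom _ (f₀.appLE ⊤ ⊤ le_top).hom
  haveI : IsScalarTower R S Γ(F, ⊤) := IsScalarTower.of_algebraMap_smul fun _ _ => rfl
  haveI : IsScalarTower R S Γ(G, ⊤) := IsScalarTower.of_algebraMap_smul fun _ _ => rfl
  letI : Algebra A S' := (f.appLE ⊤ ⊤ le_top).hom.toAlgebra
  letI : Algebra S S' := (qX.appLE ⊤ ⊤ le_top).hom.toAlgebra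
  letI : Algebra R S' := ((algebraMap S S').comp (algebraMap R S)).toAlgebra
  haveI : IsScalarTower R S S' := IsScalarTower.of_algebraMap_eq' rfl
  have hpo : CategoryTheory.IsPushout (f₀.appLE ⊤ ⊤ le_top) (qY.appLE ⊤ ⊤ le_top) (qX.appLE ⊤ ⊤ le_top)
      (f.appLE ⊤ ⊤ le_top) := by
    rw [appLE_top_eq, appLE_top_eq, appLE_top_eq, appLE_top_eq]
    exact isPushout_appTop_of_isPullback H
  haveI : IsScalarTower R A S' := IsScalarTower.of_algebraMap_eq' (congrArg CommRingCat.Hom.hom hpo.w)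
  haveI : Algebra.IsPushout R S A S' := CommRingCat.isPushout_iff_isPushout.1 hpo
  let qF := (Scheme.Modules.pullback qX).obj F
  let qG := (Scheme.Modules.pullback qX).obj G
  letI : Module S Γ(qF, ⊤) := Module.compHom _ (qX.appLE ⊤ ⊤ le_top).hom
  letI : Module S Γ(qG, ⊤) := Module.compHom _ (qX.appLE ⊤ ⊤ le_top).hom
  haveI : IsScalarTower S S' Γ(qF, ⊤) := IsScalarTower.of_algebraMap_smul fun _ _ => rfl
  haveI : IsScalarTower S S' Γ(qG, ⊤) := IsScalarTower.of_algebraMap_smul fun _ _ => rfl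
  letI : Module A Γ(qF, ⊤) := Module.compHom _ (f.appLE ⊤ ⊤ le_top).hom
  letI : Module A Γ(qG, ⊤) := Module.compHom _ (f.appLE ⊤ ⊤ le_top).hom
  haveI : IsScalarTower A S' Γ(qF, ⊤) := IsScalarTower.of_algebraMap_smul fun _ _ => rfl
  haveI : IsScalarTower A S' Γ(qG, ⊤) := IsScalarTower.of_algebraMap_smul fun _ _ => rfl
  letI : Module R Γ(qF, ⊤) := Module.compHom _ (algebraMap R S')
  letI : Module R Γ(qG, ⊤) := Module.compHom _ (algebraMap R S')
  haveI : IsScalarTower R S' Γ(qF, ⊤) := IsScalarTower.of_algebraMap_smul fun _ _ => rfl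
  haveI : IsScalarTower R S' Γ(qG, ⊤) := IsScalarTower.of_algebraMap_smul fun _ _ => rfl
  haveI : IsScalarTower R A Γ(qF, ⊤) := IsScalarTower.of_algebraMap_smul fun r m => by
    show algebraMap A S' (algebraMap R A r) • m = algebraMap R S' r • m
    rw [← IsScalarTower.algebraMap_apply]
  haveI : IsScalarTower R A Γ(qG, ⊤) := IsScalarTower.of_algebraMap_smul fun r m => by
    show algebraMap A S' (algebraMap R A r) • m = algebraMap R S' r • m
    rw [← IsScalarTower.algebraMap_apply]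
  haveI : IsScalarTower R S Γ(qF, ⊤) := IsScalarTower.of_algebraMap_smul fun _ _ => rfl
  haveI : IsScalarTower R S Γ(qG, ⊤) := IsScalarTower.of_algebraMap_smul fun _ _ => rfl
  let lF : Γ(F, ⊤) →ₗ[S] Γ(qF, ⊤) :=
    { toFun := QCoh.pullSec qX F le_top, map_add' := QCoh.pullSec_add qX F le_top,
      map_smul' := fun r x => QCoh.pullSec_smul qX F le_top r x }
  let lG : Γ(G, ⊤) →ₗ[S] Γ(qG, ⊤) :=
    { toFun := QCoh.pullSec qX G le_top, map_add' := QCoh.pullSec_add qX G le_top,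
      map_smul' := fun r x => QCoh.pullSec_smul qX G le_top r x }
  have hbF : IsBaseChange A (lF.restrictScalars R) := FlatPureHx.isBaseChange_of_isPushout (A := R) (B := S) (B' := S')
    (QCoh.isBaseChange_pullback (isAffineOpen_top X₀) qX (isAffineOpen_top X) hF le_top (fun _ => rfl) lF fun _ => rfl)
  have hbG : IsBaseChange A (lG.restrictScalars R) := FlatPureHx.isBaseChange_of_isPushout (A := R) (B := S) (B' := S')
    (QCoh.isBaseChange_pullback (isAffineOpen_top X₀) qX (isAffineOpen_top X) hG le_top (fun _ => rfl) lG fun _ => rfl)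
  let u₀ := uU (U := (⊤ : X₀.Opens)) h
  let u' := uU (U := (⊤ : X.Opens)) ((Scheme.Modules.pullback qX).map h)
  let uT := (u₀.restrictScalars R).baseChange A
  have hnat : ∀ z, u' (hbF.equiv z) = hbG.equiv (uT z) := fun z => by
    induction z using TensorProduct.induction_on with
    | zero => simp
    | add a b ha hb => simp only [map_add, ha, hb]
    | tmul a m =>
      rw [IsBaseChange.equiv_tmul, LinearMap.baseChange_tmul, IsBaseChange.equiv_tmul]
      rw [← algebraMap_smul S' a, map_smul, algebraMap_smul]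
      exact congrArg (a • ·) (uU_pullSec qX h m)
  refine And.intro ⟨fun hi z w hzw => hbF.equiv.injective (hi ?_), fun hi z w hzw => ?_⟩ ?_
  · rw [hnat, hnat]; exact congrArg _ hzw
  · obtain ⟨z, rfl⟩ := hbF.equiv.surjective z
    obtain ⟨w, rfl⟩ := hbF.equiv.surjective w
    rw [hnat, hnat] at hzw
    exact congrArg _ (hi (hbG.equiv.injective hzw))
  · let π := ((LinearMap.range u₀).mkQ.restrictScalars R).baseChange A
    have hex₀ := exact_lTensor_range (R := R) u₀ A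
    have hπe : ∀ z, π z = ((LinearMap.range u₀).mkQ.restrictScalars R).lTensor A z := fun z => by
      simp only [π, LinearMap.baseChange_eq_ltensor]
    have huT : ∀ z, uT z = (u₀.restrictScalars R).lTensor A z := fun z => by
      simp only [uT, LinearMap.baseChange_eq_ltensor]
    have hπ : Function.Surjective π := by
      intro z
      obtain ⟨y, hy⟩ := LinearMap.lTensor_surjective A (g := (LinearMap.range u₀).mkQ.restrictScalars R)
        (Submodule.mkQ_surjective (LinearMap.range u₀)) z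
      exact ⟨y, (hπe y).trans hy⟩
    have hex : LinearMap.ker π = LinearMap.range uT := by
      ext z
      rw [LinearMap.mem_ker, hπe, LinearMap.mem_range]
      refine (hex₀ z).trans ?_
      simp only [Set.mem_range, huT]
    let e : (Γ(qG, ⊤) ⧸ LinearMap.range u') ≃ₗ[A] A ⊗[R] (Γ(G, ⊤) ⧸ LinearMap.range u₀) :=
      (Submodule.Quotient.restrictScalarsEquiv A (LinearMap.range u')).symm.trans <|
        (Submodule.Quotient.equiv _ _ hbG.equiv (by
          ext w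
          simp only [Submodule.mem_map, LinearMap.mem_range, Submodule.restrictScalars_mem]
          constructor
          · rintro ⟨_, ⟨z, rfl⟩, rfl⟩
            exact ⟨hbF.equiv z, hnat z⟩
          · rintro ⟨y, rfl⟩
            obtain ⟨z, rfl⟩ := hbF.equiv.surjective y
            exact ⟨uT z, ⟨z, rfl⟩, (hnat z).symm⟩)).symm.trans <|
          (Submodule.quotEquivOfEq _ _ hex.symm).trans (LinearMap.quotKerEquivOfSurjective π hπ)
    exact ⟨fun hf => haveI := hf; Module.Flat.of_linearEquiv e.symm,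
      fun hf => haveI := hf; Module.Flat.of_linearEquiv e⟩


/-- Good at every point of an affine base change, on sections. -/
theorem forall_good_pullback_iff (f₀ : X₀ ⟶ Y₀) (qY : Y ⟶ Y₀) (qX : X ⟶ X₀) (H : IsPullback qX f f₀ qY)
    {F G : X₀.Modules} (hF : Coh.IsQCoh F) (hG : Coh.IsQCoh G) (h : F ⟶ G) :
    letI : Algebra Γ(Y₀, ⊤) Γ(X₀, ⊤) := (f₀.appLE ⊤ ⊤ le_top).hom.toAlgebra
    letI : Algebra Γ(Y₀, ⊤) Γ(Y, ⊤) := (qY.appLE ⊤ ⊤ le_top).hom.toAlgebra
    letI : Module Γ(Y₀, ⊤) Γ(F, ⊤) := Module.compHom _ (f₀.appLE ⊤ ⊤ le_top).hom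
    letI : Module Γ(Y₀, ⊤) Γ(G, ⊤) := Module.compHom _ (f₀.appLE ⊤ ⊤ le_top).hom
    haveI : IsScalarTower Γ(Y₀, ⊤) Γ(X₀, ⊤) Γ(F, ⊤) := IsScalarTower.of_algebraMap_smul fun _ _ => rfl
    haveI : IsScalarTower Γ(Y₀, ⊤) Γ(X₀, ⊤) Γ(G, ⊤) := IsScalarTower.of_algebraMap_smul fun _ _ => rfl
    ((∀ x, Good f ((Scheme.Modules.pullback qX).map h) x) ↔
      Function.Injective (((uU (U := (⊤ : X₀.Opens)) h).restrictScalars Γ(Y₀, ⊤)).lTensor Γ(Y, ⊤)) ∧
        Module.Flat Γ(Y, ⊤) (Γ(Y, ⊤) ⊗[Γ(Y₀, ⊤)] (Γ(G, ⊤) ⧸ LinearMap.range (uU (U := (⊤ : X₀.Opens)) h)))) := by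
  letI : Algebra Γ(Y₀, ⊤) Γ(X₀, ⊤) := (f₀.appLE ⊤ ⊤ le_top).hom.toAlgebra
  letI : Algebra Γ(Y₀, ⊤) Γ(Y, ⊤) := (qY.appLE ⊤ ⊤ le_top).hom.toAlgebra
  rw [forall_good_iff f (QCoh.isQCoh_pullback qX hF) (QCoh.isQCoh_pullback qX hG)]
  exact and_congr (pullback_sections_iff f f₀ qY qX H hF hG h).1 (pullback_sections_iff f f₀ qY qX H hF hG h).2

end Groth.Agent.FibInj
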