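import Groth.Agent.FibInj.Descend

/-!
# Injective with flat cokernel is stable under base change
-/

set_option autoImplicit false
set_option linter.style.haveILetI false

universe u

open CategoryTheory CategoryTheory.Limits AlgebraicGeometry Groth.Agent TensorProduct

namespace Groth.Agent.FibInj

set_option maxHeartbeats 1000000 in
/-- Injective with flat cokernel at a point passes to an affine base change. -/
theorem good_baseChange {X₀ Y₀ X Y : Scheme.{u}} {f₀ : X₀ ⟶ Y₀} [LocallyOfFinitePresentation f₀] {qX : X ⟶ X₀}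
    {f : X ⟶ Y} {qY : Y ⟶ Y₀} [IsAffineHom qY] (hX : IsPullback qX f f₀ qY) {F G : X₀.Modules}
    (hF : CohB1.IsFP F) (hG : CohB1.IsFP G) (h : F ⟶ G) (x : X) (hg : Good f₀ h (qX x)) :
    Good f ((Scheme.Modules.pullback qX).map h) x := by
  haveI : IsAffineHom qX := MorphismProperty.of_isPullback hX.flip inferInstance
  haveI := QCoh.isQCoh_of_isFP hF
  haveI := QCoh.isQCoh_of_isFP hG
  have hopen := Groth.Agent.S4851.result f₀ _ _ hG hF h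
  obtain ⟨V₀, hV₀, hxV, -⟩ :=
    exists_isAffineOpen_mem_and_subset (x := f₀ (qX x)) (U := (⊤ : Y₀.Opens)) trivial
  let Wg : X₀.Opens := ⟨{y | Good f₀ h y}, hopen⟩
  obtain ⟨U₀, hU₀, hxU, hle⟩ := exists_isAffineOpen_mem_and_subset (x := qX x) (U := f₀ ⁻¹ᵁ V₀ ⊓ Wg) ⟨hxV, hg⟩
  have hleV : U₀ ≤ f₀ ⁻¹ᵁ V₀ := fun y hy => (hle hy).1
  haveI : IsAffine U₀.toScheme := hU₀
  haveI : IsAffine V₀.toScheme := hV₀
  let f₁ := f₀.resLE V₀ U₀ hleV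
  have hw : f₁ ≫ V₀.ι = U₀.ι ≫ f₀ := Scheme.Hom.resLE_comp_ι f₀ hleV
  have hA : IsPullback (qX ∣_ U₀) (qX ⁻¹ᵁ U₀).ι U₀.ι qX := isPullback_morphismRestrict qX U₀
  have hB : IsPullback (qY ∣_ V₀) (qY ⁻¹ᵁ V₀).ι V₀.ι qY := isPullback_morphismRestrict qY V₀
  obtain ⟨f', hf', hf'a⟩ := isPullback_restrict hX hA hB f₁ hw
  haveI : IsAffine (qY ⁻¹ᵁ V₀).toScheme := hV₀.preimage qY
  haveI : IsAffine (qX ⁻¹ᵁ U₀).toScheme := hU₀.preimage qX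
  let h₁ := (Scheme.Modules.pullback U₀.ι).map h
  have hF₁ := QCoh.isQCoh_pullback U₀.ι (M := F) inferInstance
  have hG₁ := QCoh.isQCoh_pullback U₀.ι (M := G) inferInstance
  have hall : ∀ y, Good f₁ h₁ y := fun y => by
    rw [← good_comp_iff f₁ V₀.ι, hw, good_restrict_iff f₀ U₀.ι h y]
    exact (hle y.2).2
  refine (good_pullback_restrict_iff f f' (qX ⁻¹ᵁ U₀).ι (qY ⁻¹ᵁ V₀).ι hf'a qX (qX ∣_ U₀) U₀.ι hA.w h ⟨x, hxU⟩).1 ?_
  revert hf'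
  generalize (⟨x, hxU⟩ : (qX ⁻¹ᵁ U₀).toScheme) = x₁
  intro hf'
  letI : Algebra Γ(V₀.toScheme, ⊤) Γ(U₀.toScheme, ⊤) := (f₁.appLE ⊤ ⊤ le_top).hom.toAlgebra
  letI : Algebra Γ(V₀.toScheme, ⊤) Γ((qY ⁻¹ᵁ V₀).toScheme, ⊤) := ((qY ∣_ V₀).appLE ⊤ ⊤ le_top).hom.toAlgebra
  letI : Module Γ(V₀.toScheme, ⊤) Γ((Scheme.Modules.pullback U₀.ι).obj F, ⊤) :=
    Module.compHom _ (f₁.appLE ⊤ ⊤ le_top).hom
  letI : Module Γ(V₀.toScheme, ⊤) Γ((Scheme.Modules.pullback U₀.ι).obj G, ⊤) :=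
    Module.compHom _ (f₁.appLE ⊤ ⊤ le_top).hom
  haveI : IsScalarTower Γ(V₀.toScheme, ⊤) Γ(U₀.toScheme, ⊤) Γ((Scheme.Modules.pullback U₀.ι).obj F, ⊤) :=
    IsScalarTower.of_algebraMap_smul fun _ _ => rfl
  haveI : IsScalarTower Γ(V₀.toScheme, ⊤) Γ(U₀.toScheme, ⊤) Γ((Scheme.Modules.pullback U₀.ι).obj G, ⊤) :=
    IsScalarTower.of_algebraMap_smul fun _ _ => rfl
  obtain ⟨hinj, hflat⟩ := (forall_good_iff f₁ hF₁ hG₁ h₁).1 hall
  haveI := hflat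
  exact (forall_good_pullback_iff f' f₁ (qY ∣_ V₀) (qX ∣_ U₀) hf' hF₁ hG₁ h₁).2
    ⟨injective_lTensor_of_flat (R := Γ(V₀.toScheme, ⊤)) _ hinj _, inferInstance⟩ x₁

end Groth.Agent.FibInj
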