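import Groth.Agent.FlatLimHx.Flat
import Mathlib

/-!
# Directed colimits of rings of sections along affine limits over an affine base
-/

set_option autoImplicit false
set_option linter.style.haveILetI false
set_option backward.isDefEq.respectTransparency false

universe u

open CategoryTheory CategoryTheory.Limits AlgebraicGeometry Opposite

namespace Groth.Agent.FibInj

/-- Sections along a cofiltered limit of affine schemes over an affine scheme form a directed colimit. -/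
theorem exists_colim {J : Type u} [SmallCategory J] [IsCofiltered J] (E : J ⥤ Scheme.{u}) [∀ j, IsAffine (E.obj j)]
    (c : Cone E) (hc : IsLimit c) [IsAffine c.pt] {T : Scheme.{u}} [IsAffine T] (ψ : E ⟶ (Functor.const J).obj T)
    (p : c.pt ⟶ T) (hp : ∀ j, c.π.app j ≫ ψ.app j = p) :
    letI : Algebra Γ(T, ⊤) Γ(c.pt, ⊤) := (p.appLE ⊤ ⊤ le_top).hom.toAlgebra
    ∃ (α : Type u) (_ : Preorder α) (jf : α → J),
      letI : ∀ a, Algebra Γ(T, ⊤) Γ(E.obj (jf a), ⊤) := fun a =>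
        ((ψ.app (jf a) : E.obj (jf a) ⟶ T).appLE ⊤ ⊤ le_top).hom.toAlgebra
      ∃ (g : ∀ a b, a ≤ b → Γ(E.obj (jf a), ⊤) →ₐ[Γ(T, ⊤)] Γ(E.obj (jf b), ⊤))
        (π : ∀ a, Γ(E.obj (jf a), ⊤) →ₐ[Γ(T, ⊤)] Γ(c.pt, ⊤)), FlatLimHx.IsColim g π := by
  obtain ⟨α, _, _, _, F, _⟩ := IsFiltered.exists_directed Jᵒᵖ
  haveI : IsFiltered α := inferInstance
  let E' : αᵒᵖ ⥤ Scheme.{u} := F.leftOp ⋙ E
  haveI : F.leftOp.Initial := inferInstance
  let cE : Cone E' := c.whisker F.leftOp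
  have hcE : IsLimit cE := (Functor.Initial.isLimitWhiskerEquiv F.leftOp c).symm hc
  haveI : ∀ a : αᵒᵖ, IsAffine (E'.obj a) := fun a => inferInstanceAs (IsAffine (E.obj (F.obj a.unop).unop))
  haveI : ∀ {a b : αᵒᵖ} (m : a ⟶ b), IsAffineHom (E'.map m) := fun m => isAffineHom_of_isAffine _
  let jf : α → J := fun a => (F.obj a).unop
  letI : Algebra Γ(T, ⊤) Γ(c.pt, ⊤) := (p.appLE ⊤ ⊤ le_top).hom.toAlgebra
  letI : ∀ a, Algebra Γ(T, ⊤) Γ(E.obj (jf a), ⊤) := fun a =>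
    ((ψ.app (jf a) : E.obj (jf a) ⟶ T).appLE ⊤ ⊤ le_top).hom.toAlgebra
  have happ : ∀ {Z W : Scheme.{u}} (q : Z ⟶ W), q.appLE ⊤ ⊤ le_top = q.appTop := fun q =>
    Scheme.Hom.appLE_eq_app (f := q)
  have hcomp : ∀ {Z W : Scheme.{u}} (m : Z ⟶ W) (q : W ⟶ T) (r : Z ⟶ T), m ≫ q = r → ∀ x,
      m.appTop (q.appLE ⊤ ⊤ le_top x) = r.appLE ⊤ ⊤ le_top x := fun m q r h x => by
    subst h; rw [happ, happ, Scheme.Hom.comp_appTop]; rfl
  have hψ : ∀ {i j : J} (m : i ⟶ j), E.map m ≫ ψ.app j = ψ.app i := fun m =>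
    (ψ.naturality m).trans (Category.comp_id _)
  let g : ∀ a b, a ≤ b → Γ(E.obj (jf a), ⊤) →ₐ[Γ(T, ⊤)] Γ(E.obj (jf b), ⊤) := fun a b hab =>
    { (E.map (F.map (homOfLE hab)).unop).appTop.hom with
      commutes' := fun x => hcomp _ _ _ (hψ _) x }
  let π : ∀ a, Γ(E.obj (jf a), ⊤) →ₐ[Γ(T, ⊤)] Γ(c.pt, ⊤) := fun a =>
    { (c.π.app (jf a)).appTop.hom with
      commutes' := fun x => hcomp _ _ _ (hp _) x }
  refine ⟨α, inferInstance, jf, g, π, inferInstance, inferInstance, fun a x => ?_, fun a b d hab hbd x => ?_,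
    fun a b h x => ?_, fun z => ?_, fun a x hx => ?_⟩
  · show (E.map (F.map (homOfLE (le_refl a))).unop).appTop x = x
    rw [show homOfLE (le_refl a) = 𝟙 a from Subsingleton.elim _ _, F.map_id, unop_id, E.map_id]
    rfl
  · show (E.map (F.map (homOfLE hbd)).unop).appTop ((E.map (F.map (homOfLE hab)).unop).appTop x) =
      (E.map (F.map (homOfLE (hab.trans hbd))).unop).appTop x
    rw [show homOfLE (hab.trans hbd) = homOfLE hab ≫ homOfLE hbd from Subsingleton.elim _ _, F.map_comp,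
      unop_comp, E.map_comp, Scheme.Hom.comp_appTop]
    rfl
  · show (c.π.app (jf b)).appTop ((E.map (F.map (homOfLE h)).unop).appTop x) = (c.π.app (jf a)).appTop x
    rw [← c.w (F.map (homOfLE h)).unop, Scheme.Hom.comp_appTop]
    rfl
  · obtain ⟨a, y, hy⟩ := exists_appTop_π_eq_of_isAffine_of_isLimit E' cE hcE z
    exact ⟨a.unop, y, hy⟩
  · obtain ⟨b, m, hm⟩ := exists_appTop_map_eq_zero_of_isLimit E' cE hcE (i := op a) x hx
    refine ⟨b.unop, leOfHom m.unop, ?_⟩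
    show (E.map (F.map (homOfLE (leOfHom m.unop))).unop).appTop x = 0
    rw [show homOfLE (leOfHom m.unop) = m.unop from Subsingleton.elim _ _]
    exact hm

end Groth.Agent.FibInj
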