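import Groth.Agent.FibInj.Stage

/-!
# Injective with flat cokernel at a point descends to a stage: proof
-/

set_option autoImplicit false
set_option linter.style.haveILetI false

universe u

open CategoryTheory CategoryTheory.Limits AlgebraicGeometry Groth.Agent TensorProduct

namespace Groth.Agent.FibInj

variable {I : Type u} [SmallCategory I] [IsCofiltered I] {D : I ⥤ Scheme.{u}} {c : Cone D} {i₀ : I}
  {X₀ Y₀ : Scheme.{u}} {f₀ : X₀ ⟶ Y₀} {g₀ : Y₀ ⟶ D.obj i₀} {X Y : Scheme.{u}} {f : X ⟶ Y}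
  {g : Y ⟶ c.pt} {qY : Y ⟶ Y₀} {qX : X ⟶ X₀} (hY : IsPullback qY g g₀ (c.π.app i₀))
  (hX : IsPullback qX f f₀ qY) {F G : X₀.Modules} (h : F ⟶ G)

/-- Descent from open subschemes of the initial stage. -/
theorem descends_of_restrict {X₀' Y₀' X' Y' : Scheme.{u}} (a₀ : X₀' ⟶ X₀) [IsOpenImmersion a₀]
    (b₀ : Y₀' ⟶ Y₀) [IsOpenImmersion b₀] (a : X' ⟶ X) (b : Y' ⟶ Y) (qX' : X' ⟶ X₀') (qY' : Y' ⟶ Y₀')
    (hA : IsPullback qX' a a₀ qX) (hB : IsPullback qY' b b₀ qY) (f₀' : X₀' ⟶ Y₀') (hw : f₀' ≫ b₀ = a₀ ≫ f₀)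
    (f' : X' ⟶ Y') (hf' : f' ≫ b = a ≫ f) (x : X')
    (hd : Descends c i₀ f₀' (b₀ ≫ g₀) f' (b ≫ g) qY' qX' ((Scheme.Modules.pullback a₀).map h) x) :
    Descends c i₀ f₀ g₀ f g qY qX h (a x) := by
  obtain ⟨i, φ, hk⟩ := hd
  refine ⟨i, φ, fun Xi Yi fi gi pY pX vY vX hi hXi h1 h2 h3 h4 => ?_⟩
  have hAi : IsPullback (pullback.snd pX a₀) (pullback.fst pX a₀) a₀ pX := (IsPullback.of_hasPullback pX a₀).flip
  have hBi : IsPullback (pullback.snd pY b₀) (pullback.fst pY b₀) b₀ pY := (IsPullback.of_hasPullback pY b₀).flip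
  obtain ⟨fi', hfi', hfia⟩ := isPullback_restrict hXi hAi hBi f₀' hw
  have hwY : qY' ≫ b₀ = (b ≫ vY) ≫ pY := by rw [hB.w, Category.assoc, h1]
  have hwX : qX' ≫ a₀ = (a ≫ vX) ≫ pX := by rw [hA.w, Category.assoc, h3]
  let vY' := hBi.lift qY' (b ≫ vY) hwY
  let vX' := hAi.lift qX' (a ≫ vX) hwX
  have hY1 : vY' ≫ pullback.snd pY b₀ = qY' := hBi.lift_fst _ _ _
  have hY2 : vY' ≫ pullback.fst pY b₀ = b ≫ vY := hBi.lift_snd _ _ _
  have hX1 : vX' ≫ pullback.snd pX a₀ = qX' := hAi.lift_fst _ _ _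
  have hX2 : vX' ≫ pullback.fst pX a₀ = a ≫ vX := hAi.lift_snd _ _ _
  haveI : IsOpenImmersion (pullback.fst pX a₀) := inferInstance
  haveI : IsOpenImmersion (pullback.fst pY b₀) := inferInstance
  haveI : Mono b₀ := inferInstance
  have hg := hk _ _ fi' (pullback.fst pY b₀ ≫ gi) (pullback.snd pY b₀) (pullback.snd pX a₀) vY' vX'
    (hBi.paste_vert hi) hfi' hY1
    (by rw [← Category.assoc, hY2, Category.assoc, h2, Category.assoc]) hX1
    ((cancel_mono (pullback.fst pY b₀)).1 (by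
      rw [Category.assoc, hfia, ← Category.assoc, hX2, Category.assoc, h4, Category.assoc, hY2,
        ← Category.assoc, ← hf', Category.assoc]))
  rw [good_pullback_restrict_iff fi fi' (pullback.fst pX a₀) (pullback.fst pY b₀) hfia pX (pullback.snd pX a₀) a₀
    hAi.w h, ← Scheme.Hom.comp_apply, hX2, Scheme.Hom.comp_apply] at hg
  exact hg

variable [∀ (i j : I) (φ : i ⟶ j), IsAffineHom (D.map φ)] (hc : IsLimit c)

include hY hc in
theorem isAffineHom_qY : IsAffineHom qY := by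
  haveI : ∀ {i j : I} (φ : i ⟶ j), IsAffineHom (D.map φ) := fun φ => inferInstance
  haveI := isAffineHom_π_app D c hc i₀
  exact MorphismProperty.of_isPullback hY.flip inferInstance

set_option maxHeartbeats 1000000 in
include hY hX hc in
/-- Affine initial stage, flat cokernel there. -/
theorem descends_affine_flat [IsAffine X₀] [IsAffine Y₀] [LocallyOfFinitePresentation f₀]
    (hF : CohB1.IsFP F) (hG : CohB1.IsFP G)
    (hflat : letI : Algebra Γ(Y₀, ⊤) Γ(X₀, ⊤) := (f₀.appLE ⊤ ⊤ le_top).hom.toAlgebra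
      letI : Module Γ(Y₀, ⊤) Γ(G, ⊤) := Module.compHom _ (f₀.appLE ⊤ ⊤ le_top).hom
      haveI : IsScalarTower Γ(Y₀, ⊤) Γ(X₀, ⊤) Γ(G, ⊤) := IsScalarTower.of_algebraMap_smul fun _ _ => rfl
      Module.Flat Γ(Y₀, ⊤) (Γ(G, ⊤) ⧸ LinearMap.range (uU (U := (⊤ : X₀.Opens)) h)))
    (hgood : ∀ x, Good f ((Scheme.Modules.pullback qX).map h) x) (x : X) :
    Descends c i₀ f₀ g₀ f g qY qX h x := by
  haveI : ∀ {i j : I} (φ : i ⟶ j), IsAffineHom (D.map φ) := fun φ => inferInstance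
  have hqY := isAffineHom_qY hY hc
  haveI : IsAffine Y := isAffine_of_isAffineHom qY
  haveI : IsAffineHom qX := MorphismProperty.of_isPullback hX.flip hqY
  haveI : IsAffine X := isAffine_of_isAffineHom qX
  have hFq := QCoh.isQCoh_of_isFP hF
  have hGq := QCoh.isQCoh_of_isFP hG
  let E := MorLib.BC.diag D g₀
  haveI : ∀ j : Over i₀, IsAffine (E.obj j) := fun j =>
    show IsAffine (pullback g₀ (D.map j.hom)) from
      haveI : IsAffineHom (pullback.fst g₀ (D.map j.hom)) := MorphismProperty.pullback_fst _ _ inferInstance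
      isAffine_of_isAffineHom (pullback.fst g₀ (D.map j.hom))
  let cE := MorLib.BC.cone D g₀ hY
  have hcE : IsLimit cE := MorLib.BC.isLimitCone D g₀ hY hc
  haveI : IsAffine cE.pt := inferInstanceAs (IsAffine Y)
  obtain ⟨α, _, jf, t, π, hcol⟩ := exists_colim E cE hcE (MorLib.BC.toStart D g₀) qY
    (fun j => MorLib.BC.proj_fst D g₀ hY j)
  letI : Algebra Γ(Y₀, ⊤) Γ(X₀, ⊤) := (f₀.appLE ⊤ ⊤ le_top).hom.toAlgebra
  letI : Module Γ(Y₀, ⊤) Γ(F, ⊤) := Module.compHom _ (f₀.appLE ⊤ ⊤ le_top).hom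
  letI : Module Γ(Y₀, ⊤) Γ(G, ⊤) := Module.compHom _ (f₀.appLE ⊤ ⊤ le_top).hom
  haveI : IsScalarTower Γ(Y₀, ⊤) Γ(X₀, ⊤) Γ(F, ⊤) := IsScalarTower.of_algebraMap_smul fun _ _ => rfl
  haveI : IsScalarTower Γ(Y₀, ⊤) Γ(X₀, ⊤) Γ(G, ⊤) := IsScalarTower.of_algebraMap_smul fun _ _ => rfl
  letI : Algebra Γ(Y₀, ⊤) Γ(Y, ⊤) := (qY.appLE ⊤ ⊤ le_top).hom.toAlgebra
  letI : Algebra Γ(Y₀, ⊤) Γ(cE.pt, ⊤) := (qY.appLE ⊤ ⊤ le_top).hom.toAlgebra
  letI : ∀ a, Algebra Γ(Y₀, ⊤) Γ(E.obj (jf a), ⊤) := fun a =>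
    (((MorLib.BC.toStart D g₀).app (jf a) : E.obj (jf a) ⟶ Y₀).appLE ⊤ ⊤ le_top).hom.toAlgebra
  haveI : Algebra.FinitePresentation Γ(Y₀, ⊤) Γ(X₀, ⊤) :=
    f₀.finitePresentation_appLE (isAffineOpen_top Y₀) (isAffineOpen_top X₀) le_top
  haveI : Module.FinitePresentation Γ(X₀, ⊤) Γ(F, ⊤) := QCoh.finitePresentation_of_isFP hF (isAffineOpen_top X₀)
  haveI : Module.FinitePresentation Γ(X₀, ⊤) Γ(G, ⊤) := QCoh.finitePresentation_of_isFP hG (isAffineOpen_top X₀)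
  haveI := hflat
  obtain ⟨a, ha⟩ := exists_injective_stage (R := Γ(Y₀, ⊤)) (uU (U := (⊤ : X₀.Opens)) h) hcol
    ((forall_good_pullback_iff f f₀ qY qX hX hFq hGq h).1 hgood).1
  let j := jf a
  let pY : E.obj j ⟶ Y₀ := pullback.fst g₀ (D.map j.hom)
  haveI : IsAffine (pullback f₀ pY) := by
    haveI : IsAffineHom pY := MorphismProperty.pullback_fst _ _ inferInstance
    exact isAffine_of_isAffineHom (pullback.fst f₀ pY)
  let Xi := pullback f₀ pY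
  have hi : IsPullback pY (pullback.snd g₀ (D.map j.hom)) g₀ (D.map j.hom) := IsPullback.of_hasPullback _ _
  have hXi : IsPullback (pullback.fst f₀ pY) (pullback.snd f₀ pY) f₀ pY := IsPullback.of_hasPullback _ _
  refine descends_of_good h hi hXi (vY := liftY hY hi) (vX := liftX hY hX hi hXi) (hi.lift_fst _ _ _)
    (hi.lift_snd _ _ _) (hXi.lift_fst _ _ _) (hXi.lift_snd _ _ _) x
    ((forall_good_pullback_iff _ f₀ pY _ hXi hFq hGq h).2 ⟨ha, inferInstance⟩ _)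

set_option maxHeartbeats 1000000 in
include hY hX hc in
/-- Affine initial stage. -/
theorem descends_affine [IsAffine X₀] [IsAffine Y₀] [LocallyOfFinitePresentation f₀]
    (hF : CohB1.IsFP F) (hG : CohB1.IsFP G) (hgood : ∀ x, Good f ((Scheme.Modules.pullback qX).map h) x) (x : X) :
    Descends c i₀ f₀ g₀ f g qY qX h x := by
  haveI : ∀ {i j : I} (φ : i ⟶ j), IsAffineHom (D.map φ) := fun φ => inferInstance
  have hqY := isAffineHom_qY hY hc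
  haveI : IsAffine Y := isAffine_of_isAffineHom qY
  haveI : IsAffineHom qX := MorphismProperty.of_isPullback hX.flip hqY
  haveI : IsAffine X := isAffine_of_isAffineHom qX
  have hFq := QCoh.isQCoh_of_isFP hF
  have hGq := QCoh.isQCoh_of_isFP hG
  let E := MorLib.BC.diag D g₀
  haveI : ∀ j : Over i₀, IsAffine (E.obj j) := fun j =>
    show IsAffine (pullback g₀ (D.map j.hom)) from
      haveI : IsAffineHom (pullback.fst g₀ (D.map j.hom)) := MorphismProperty.pullback_fst _ _ inferInstance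
      isAffine_of_isAffineHom (pullback.fst g₀ (D.map j.hom))
  let cE := MorLib.BC.cone D g₀ hY
  have hcE : IsLimit cE := MorLib.BC.isLimitCone D g₀ hY hc
  haveI : IsAffine cE.pt := inferInstanceAs (IsAffine Y)
  obtain ⟨α, _, jf, t, π, hcol⟩ := exists_colim E cE hcE (MorLib.BC.toStart D g₀) qY
    (fun j => MorLib.BC.proj_fst D g₀ hY j)
  letI : Algebra Γ(Y₀, ⊤) Γ(X₀, ⊤) := (f₀.appLE ⊤ ⊤ le_top).hom.toAlgebra
  letI : Module Γ(Y₀, ⊤) Γ(G, ⊤) := Module.compHom _ (f₀.appLE ⊤ ⊤ le_top).hom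
  haveI : IsScalarTower Γ(Y₀, ⊤) Γ(X₀, ⊤) Γ(G, ⊤) := IsScalarTower.of_algebraMap_smul fun _ _ => rfl
  letI : Algebra Γ(Y₀, ⊤) Γ(Y, ⊤) := (qY.appLE ⊤ ⊤ le_top).hom.toAlgebra
  letI : Algebra Γ(Y₀, ⊤) Γ(cE.pt, ⊤) := (qY.appLE ⊤ ⊤ le_top).hom.toAlgebra
  letI : ∀ a, Algebra Γ(Y₀, ⊤) Γ(E.obj (jf a), ⊤) := fun a =>
    (((MorLib.BC.toStart D g₀).app (jf a) : E.obj (jf a) ⟶ Y₀).appLE ⊤ ⊤ le_top).hom.toAlgebra
  letI : ∀ a, Algebra Γ(E.obj (jf a), ⊤) Γ(Y, ⊤) := fun a => (π a).toRingHom.toAlgebra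
  haveI : ∀ a, IsScalarTower Γ(Y₀, ⊤) Γ(E.obj (jf a), ⊤) Γ(Y, ⊤) := fun a =>
    IsScalarTower.of_algebraMap_eq fun r => ((π a).commutes r).symm
  haveI : Algebra.FinitePresentation Γ(Y₀, ⊤) Γ(X₀, ⊤) :=
    f₀.finitePresentation_appLE (isAffineOpen_top Y₀) (isAffineOpen_top X₀) le_top
  haveI : Module.FinitePresentation Γ(X₀, ⊤) Γ(F, ⊤) := QCoh.finitePresentation_of_isFP hF (isAffineOpen_top X₀)
  haveI : Module.FinitePresentation Γ(X₀, ⊤) Γ(G, ⊤) := QCoh.finitePresentation_of_isFP hG (isAffineOpen_top X₀)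
  haveI : Module.FinitePresentation Γ(X₀, ⊤) (Γ(G, ⊤) ⧸ LinearMap.range (uU (U := (⊤ : X₀.Opens)) h)) :=
    Module.finitePresentation_of_surjective (Submodule.mkQ _) (Submodule.mkQ_surjective _)
      (by rw [Submodule.ker_mkQ]; exact Module.Finite.iff_fg.1 (Module.Finite.range _))
  obtain ⟨a, ha⟩ := FlatSyz5.exists_flat_stage (B₀ := Γ(X₀, ⊤)) (fun a => Γ(E.obj (jf a), ⊤)) t Γ(Y, ⊤)
    ⟨hcol.dir, hcol.ne, fun i => RingHom.ext (hcol.self i), fun i j k hij hjk => RingHom.ext (hcol.comp i j k hij hjk),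
      fun i j h => RingHom.ext (hcol.compat i j h), hcol.surj, hcol.zero⟩
    _ ((forall_good_pullback_iff f f₀ qY qX hX hFq hGq h).1 hgood).2
  let j := jf a
  let pY : E.obj j ⟶ Y₀ := pullback.fst g₀ (D.map j.hom)
  haveI : IsAffine (pullback f₀ pY) := by
    haveI : IsAffineHom pY := MorphismProperty.pullback_fst _ _ inferInstance
    exact isAffine_of_isAffineHom (pullback.fst f₀ pY)
  have hi : IsPullback pY (pullback.snd g₀ (D.map j.hom)) g₀ (D.map j.hom) := IsPullback.of_hasPullback _ _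
  have hXi : IsPullback (pullback.fst f₀ pY) (pullback.snd f₀ pY) f₀ pY := IsPullback.of_hasPullback _ _
  let vY := liftY hY hi
  let vX := liftX hY hX hi hXi
  have hv1 : vY ≫ pY = qY := hi.lift_fst _ _ _
  have hv2 : vY ≫ pullback.snd g₀ (D.map j.hom) = g ≫ c.π.app j.left := hi.lift_snd _ _ _
  have hv3 : vX ≫ pullback.fst f₀ pY = qX := hXi.lift_fst _ _ _
  have hv4 : vX ≫ pullback.snd f₀ pY = f ≫ vY := hXi.lift_snd _ _ _
  refine descends_restart h hi hXi hv1 hv2 hv3 hv4 x ?_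
  have hY' : IsPullback vY g (pullback.snd g₀ (D.map j.hom)) (c.π.app j.left) :=
    IsPullback.of_right (by rw [hv1, c.w]; exact hY) hv2 hi
  have hX' : IsPullback vX f (pullback.snd f₀ pY) vY := IsPullback.of_right (by rw [hv3, hv1]; exact hX) hv4 hXi
  refine descends_affine_flat hY' hX' _ hc (ModStLib.isFP_pullback _ hF) (ModStLib.isFP_pullback _ hG)
    ((pullback_sections_iff _ f₀ pY _ hXi hFq hGq h).2.2 ha) (fun y => ?_) x
  exact (good_iff_of_arrowIso f (FlatLimHx.pullbackCompArrow vX _ h ≪≫ FlatLimHx.pullbackEqArrow hv3 h) y).2 (hgood y)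

set_option maxHeartbeats 1000000 in
include hY hX hc in
/-- The general case. -/
theorem descends_of_good_limit [LocallyOfFinitePresentation f₀]
    (hF : CohB1.IsFP F) (hG : CohB1.IsFP G) (x : X) (hg : Good f ((Scheme.Modules.pullback qX).map h) x) :
    Descends c i₀ f₀ g₀ f g qY qX h x := by
  haveI : ∀ {i j : I} (φ : i ⟶ j), IsAffineHom (D.map φ) := fun φ => inferInstance
  have hqY := isAffineHom_qY hY hc
  haveI : IsAffineHom qX := MorphismProperty.of_isPullback hX.flip hqY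
  -- affine charts
  obtain ⟨V₀, hV₀, hxV, -⟩ :=
    exists_isAffineOpen_mem_and_subset (x := f₀ (qX x)) (U := (⊤ : Y₀.Opens)) trivial
  obtain ⟨U₀, hU₀, hxU, hle⟩ := exists_isAffineOpen_mem_and_subset (x := qX x) (U := f₀ ⁻¹ᵁ V₀) hxV
  haveI : IsAffine U₀.toScheme := hU₀
  haveI : IsAffine V₀.toScheme := hV₀
  let f₁ := f₀.resLE V₀ U₀ hle
  have hw : f₁ ≫ V₀.ι = U₀.ι ≫ f₀ := Scheme.Hom.resLE_comp_ι f₀ hle
  have hA : IsPullback (qX ∣_ U₀) (qX ⁻¹ᵁ U₀).ι U₀.ι qX := isPullback_morphismRestrict qX U₀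
  have hB : IsPullback (qY ∣_ V₀) (qY ⁻¹ᵁ V₀).ι V₀.ι qY := isPullback_morphismRestrict qY V₀
  obtain ⟨f', hf', hf'a⟩ := isPullback_restrict hX hA hB f₁ hw
  have hY₁ : IsPullback (qY ∣_ V₀) ((qY ⁻¹ᵁ V₀).ι ≫ g) (V₀.ι ≫ g₀) (c.π.app i₀) := hB.paste_vert hY
  let x₁ : (qX ⁻¹ᵁ U₀).toScheme := ⟨x, hxU⟩
  let h₁ := (Scheme.Modules.pullback U₀.ι).map h
  have hg₁ : Good f' ((Scheme.Modules.pullback (qX ∣_ U₀)).map h₁) x₁ :=
    (good_pullback_restrict_iff f f' (qX ⁻¹ᵁ U₀).ι (qY ⁻¹ᵁ V₀).ι hf'a qX (qX ∣_ U₀) U₀.ι hA.w h x₁).2 hg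
  show Descends c i₀ f₀ g₀ f g qY qX h ((qX ⁻¹ᵁ U₀).ι x₁)
  refine descends_of_restrict h U₀.ι V₀.ι _ _ _ _ hA hB f₁ hw f' hf'a x₁ ?_
  -- in the affine case
  haveI : IsAffine (qY ⁻¹ᵁ V₀).toScheme := hV₀.preimage qY
  haveI : IsAffine (qX ⁻¹ᵁ U₀).toScheme := hU₀.preimage qX
  haveI : LocallyOfFinitePresentation f' := MorphismProperty.of_isPullback hf' (inferInstance : LocallyOfFinitePresentation f₁)
  have hF₁ := ModStLib.isFP_pullback U₀.ι hF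
  have hG₁ := ModStLib.isFP_pullback U₀.ι hG
  have hFX := ModStLib.isFP_pullback (qX ∣_ U₀) hF₁
  have hGX := ModStLib.isFP_pullback (qX ∣_ U₀) hG₁
  haveI := QCoh.isQCoh_of_isFP hFX
  haveI := QCoh.isQCoh_of_isFP hGX
  have hopen := Groth.Agent.S4851.result f' _ _ hGX hFX ((Scheme.Modules.pullback (qX ∣_ U₀)).map h₁)
  obtain ⟨_, ⟨_, ⟨s, rfl⟩, rfl⟩, hxs, hsW⟩ := (isBasis_basicOpen (qX ⁻¹ᵁ U₀).toScheme).exists_subset_of_mem_open
    (show x₁ ∈ {y | Good f' ((Scheme.Modules.pullback (qX ∣_ U₀)).map h₁) y} from hg₁) hopen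
  -- the section comes from a stage
  let g₁ := V₀.ι ≫ g₀
  have hX₁ : IsPullback (qX ∣_ U₀) (f' ≫ (qY ⁻¹ᵁ V₀).ι ≫ g) (f₁ ≫ g₁) (c.π.app i₀) := hf'.paste_vert hY₁
  let E := MorLib.BC.diag D (f₁ ≫ g₁)
  haveI : ∀ j : Over i₀, IsAffine (E.obj j) := fun j =>
    show IsAffine (pullback (f₁ ≫ g₁) (D.map j.hom)) from
      haveI : IsAffineHom (pullback.fst (f₁ ≫ g₁) (D.map j.hom)) := MorphismProperty.pullback_fst _ _ inferInstance
      isAffine_of_isAffineHom (pullback.fst (f₁ ≫ g₁) (D.map j.hom))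
  obtain ⟨j, sj, hsj⟩ := exists_appTop_π_eq_of_isAffine_of_isLimit E (MorLib.BC.cone D (f₁ ≫ g₁) hX₁)
    (MorLib.BC.isLimitCone D (f₁ ≫ g₁) hX₁ hc) s
  let pY : pullback g₁ (D.map j.hom) ⟶ V₀.toScheme := pullback.fst _ _
  have hi : IsPullback pY (pullback.snd g₁ (D.map j.hom)) g₁ (D.map j.hom) := IsPullback.of_hasPullback _ _
  haveI : IsAffine (pullback g₁ (D.map j.hom)) := isAffine_of_isAffineHom pY
  let pX : E.obj j ⟶ U₀.toScheme := pullback.fst _ _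
  let fi : E.obj j ⟶ pullback g₁ (D.map j.hom) :=
    hi.lift (pX ≫ f₁) (pullback.snd _ _) (by rw [Category.assoc]; exact pullback.condition)
  have hfi1 : fi ≫ pY = pX ≫ f₁ := hi.lift_fst _ _ _
  have hfi2 : fi ≫ pullback.snd g₁ (D.map j.hom) = pullback.snd (f₁ ≫ g₁) (D.map j.hom) := hi.lift_snd _ _ _
  have hXi : IsPullback pX fi f₁ pY :=
    IsPullback.of_bot (by rw [hfi2]; exact IsPullback.of_hasPullback _ _) hfi1.symm hi
  let vY := liftY hY₁ hi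
  let vX : (qX ⁻¹ᵁ U₀).toScheme ⟶ E.obj j := MorLib.BC.proj D (f₁ ≫ g₁) hX₁ j
  have hv1 : vY ≫ pY = qY ∣_ V₀ := hi.lift_fst _ _ _
  have hv2 : vY ≫ pullback.snd g₁ (D.map j.hom) = ((qY ⁻¹ᵁ V₀).ι ≫ g) ≫ c.π.app j.left := hi.lift_snd _ _ _
  have hv3 : vX ≫ pX = qX ∣_ U₀ := MorLib.BC.proj_fst D (f₁ ≫ g₁) hX₁ j
  have hv4 : vX ≫ fi = f' ≫ vY := hi.hom_ext
    (by rw [Category.assoc, hfi1, ← Category.assoc, hv3, Category.assoc, hv1]; exact hf'.w)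
    (by rw [Category.assoc, hfi2, Category.assoc, hv2]
        exact (MorLib.BC.proj_snd D (f₁ ≫ g₁) hX₁ j).trans (by simp only [Category.assoc]))
  refine descends_restart h₁ hi hXi hv1 hv2 hv3 hv4 x₁ ?_
  -- restrict to the basic open
  let W := (E.obj j).basicOpen sj
  have hpre : vX ⁻¹ᵁ W = (qX ⁻¹ᵁ U₀).toScheme.basicOpen s := by
    rw [← hsj]; exact Scheme.preimage_basicOpen_top vX sj
  let h₂ := (Scheme.Modules.pullback pX).map h₁
  have hY₂ : IsPullback vY ((qY ⁻¹ᵁ V₀).ι ≫ g) (pullback.snd g₁ (D.map j.hom)) (c.π.app j.left) :=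
    IsPullback.of_right (by rw [hv1, c.w]; exact hY₁) hv2 hi
  have hX₂ : IsPullback vX f' fi vY := IsPullback.of_right (by rw [hv3, hv1]; exact hf') hv4 hXi
  have hA₂ : IsPullback (vX ∣_ W) (vX ⁻¹ᵁ W).ι W.ι vX := isPullback_morphismRestrict vX W
  have hB₂ : IsPullback vY (𝟙 _) (𝟙 _) vY := IsPullback.of_vert_isIso ⟨by simp⟩
  obtain ⟨f₂, hf₂, hf₂a⟩ := isPullback_restrict hX₂ hA₂ hB₂ (W.ι ≫ fi) (by simp)
  have hxW : x₁ ∈ vX ⁻¹ᵁ W := hpre ▸ hxs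
  let x₂ : (vX ⁻¹ᵁ W).toScheme := ⟨x₁, hxW⟩
  show Descends c j.left fi (pullback.snd g₁ (D.map j.hom)) f' ((qY ⁻¹ᵁ V₀).ι ≫ g) vY vX h₂ ((vX ⁻¹ᵁ W).ι x₂)
  refine descends_of_restrict h₂ W.ι (𝟙 _) _ _ _ _ hA₂ hB₂ (W.ι ≫ fi) (by simp) f₂ hf₂a x₂ ?_
  haveI : LocallyOfFinitePresentation fi := MorphismProperty.of_isPullback hXi (inferInstance : LocallyOfFinitePresentation f₁)
  haveI : IsAffine W.toScheme := (isAffineOpen_top (E.obj j)).basicOpen sj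
  have hY₃ : IsPullback vY (𝟙 _ ≫ (qY ⁻¹ᵁ V₀).ι ≫ g) (𝟙 _ ≫ pullback.snd g₁ (D.map j.hom)) (c.π.app j.left) := by
    simpa using hY₂
  refine descends_affine hY₃ hf₂ _ hc (ModStLib.isFP_pullback _ (ModStLib.isFP_pullback _ hF₁))
    (ModStLib.isFP_pullback _ (ModStLib.isFP_pullback _ hG₁)) (fun y => ?_) x₂
  refine (good_pullback_restrict_iff f' f₂ (vX ⁻¹ᵁ W).ι (𝟙 _) hf₂a vX (vX ∣_ W) W.ι hA₂.w h₂ y).2 ?_
  refine (good_iff_of_arrowIso f' (FlatLimHx.pullbackCompArrow vX pX h₁ ≪≫ FlatLimHx.pullbackEqArrow hv3 h₁) _).2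
    (hsW ?_)
  show (vX ⁻¹ᵁ W).ι y ∈ (qX ⁻¹ᵁ U₀).toScheme.basicOpen s
  exact hpre ▸ y.2

end Groth.Agent.FibInj
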