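import Groth.Agent.FlatModel.Core
import Groth.Agent.Synt29.CIBaseChange
import Mathlib

/-!
# Membership in a submodule on a fibre descends along a change of the base
-/

set_option autoImplicit false
set_option linter.style.haveILetI false

universe u

open TensorProduct MvPolynomial Groth.Agent.FlatModel

namespace Groth.Agent.FibInj

/-- Membership in a span descends along a faithfully flat map. -/
theorem mem_span_of_faithfullyFlat {A B : Type u} [CommRing A] [CommRing B] [Algebra A B]
    [Module.FaithfullyFlat A B] {b : ℕ} (G : Set (Fin b → A)) (x : Fin b → A)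
    (h : (algebraMap A B ∘ x) ∈ Submodule.span B ((algebraMap A B ∘ ·) '' G)) : x ∈ Submodule.span A G := by
  classical
  let K := Submodule.span A G
  let q : (Fin b → A) →ₗ[A] (Fin b → A) ⧸ K := K.mkQ
  let θ : (Fin b → B) →ₗ[B] B ⊗[A] ((Fin b → A) ⧸ K) :=
    Fintype.linearCombination B fun i => (1 : B) ⊗ₜ[A] q (Pi.single i 1)
  have hθ : ∀ y : Fin b → A, θ (algebraMap A B ∘ y) = (1 : B) ⊗ₜ[A] q y := by
    intro y
    conv_rhs => rw [pi_eq_sum_univ' y]
    simp only [θ, Fintype.linearCombination_apply, map_sum, tmul_sum, Function.comp_apply]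
    refine Finset.sum_congr rfl fun i _ => ?_
    rw [algebraMap_smul, map_smul, tmul_smul]
  have hle : Submodule.span B ((algebraMap A B ∘ ·) '' G) ≤ LinearMap.ker θ := by
    rw [Submodule.span_le]
    rintro _ ⟨y, hy, rfl⟩
    show θ (algebraMap A B ∘ y) = 0
    rw [hθ, show q y = 0 from (Submodule.Quotient.mk_eq_zero _).2 (Submodule.subset_span hy), tmul_zero]
  have h1 : (1 : B) ⊗ₜ[A] q x = 0 := by rw [← hθ]; exact hle h
  have h2 : q x = 0 := Module.FaithfullyFlat.tensorProduct_mk_injective ((Fin b → A) ⧸ K)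
    (show TensorProduct.mk A B _ 1 (q x) = TensorProduct.mk A B _ 1 0 by rw [map_zero]; exact h1)
  exact (Submodule.Quotient.mk_eq_zero _).1 h2

/-- Membership in a span after localizing at a prime. -/
theorem exists_smul_mem_span_atPrime {A : Type u} [CommRing A] (Q : Ideal A) [Q.IsPrime] {b : ℕ}
    (G : Set (Fin b → A)) (x : Fin b → A)
    (h : (algebraMap A (Localization.AtPrime Q) ∘ x) ∈
      Submodule.span (Localization.AtPrime Q) ((algebraMap A (Localization.AtPrime Q) ∘ ·) '' G)) :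
    ∃ t ∉ Q, t • x ∈ Submodule.span A G := by
  let f : (Fin b → A) →ₗ[A] (Fin b → Localization.AtPrime Q) :=
    LinearMap.pi fun i => Algebra.linearMap A (Localization.AtPrime Q) ∘ₗ LinearMap.proj i
  have : IsLocalizedModule Q.primeCompl f := IsLocalizedModule.pi Q.primeCompl _
  have h' : f x ∈ (Submodule.span A G).localized' (Localization.AtPrime Q) Q.primeCompl f := by
    rw [Submodule.localized'_span]; exact h
  obtain ⟨m, hm, t, hmt⟩ := (Submodule.mem_localized' ..).1 h'
  rw [← IsLocalizedModule.mk'_one Q.primeCompl f x, IsLocalizedModule.mk'_eq_mk'_iff] at hmt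
  obtain ⟨c, hc⟩ := hmt
  refine ⟨(c : A) * t, Q.primeCompl.mul_mem c.2 t.2, ?_⟩
  simp only [Submonoid.smul_def, OneMemClass.coe_one, one_smul] at hc
  rw [mul_smul, hc]
  exact Submodule.smul_mem _ _ hm

/-- Clearing denominators in a polynomial ring over the residue field of a prime. -/
theorem exists_mul_eq_map {R : Type u} [CommRing R] (p : Ideal R) [p.IsPrime] {n : ℕ}
    (f : MvPolynomial (Fin n) p.ResidueField) :
    ∃ c ∉ p, ∃ z : MvPolynomial (Fin n) R,
      MvPolynomial.map (algebraMap R p.ResidueField) z = C (algebraMap R p.ResidueField c) * f := by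
  induction f using MvPolynomial.induction_on' with
  | monomial d a =>
    obtain ⟨⟨x, s⟩, hxs⟩ := IsLocalization.surj (nonZeroDivisors (R ⧸ p)) a
    obtain ⟨x, rfl⟩ := Ideal.Quotient.mk_surjective x
    obtain ⟨c, hc⟩ := Ideal.Quotient.mk_surjective (s : R ⧸ p)
    refine ⟨c, fun h => nonZeroDivisors.coe_ne_zero s (by rw [← hc, Ideal.Quotient.eq_zero_iff_mem.2 h]),
      monomial d x, ?_⟩
    rw [MvPolynomial.map_monomial, MvPolynomial.C_mul_monomial]
    congr 1
    rw [IsScalarTower.algebraMap_apply R (R ⧸ p) p.ResidueField x,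
      IsScalarTower.algebraMap_apply R (R ⧸ p) p.ResidueField c, Ideal.Quotient.algebraMap_eq, hc, ← hxs, mul_comm]
  | add f g hf hg =>
    obtain ⟨c, hc, z, hz⟩ := hf
    obtain ⟨d, hd, w, hw⟩ := hg
    refine ⟨c * d, Ideal.IsPrime.mul_notMem ‹_› hc hd, C d * z + C c * w, ?_⟩
    rw [map_add, map_mul, map_mul, hz, hw, MvPolynomial.map_C, MvPolynomial.map_C, map_mul, map_mul]
    ring

set_option maxHeartbeats 1000000 in
/-- Membership on the fibre descends. -/
theorem exists_smul_mem_fibre {R₁ R : Type u} [CommRing R₁] [CommRing R] [Algebra R₁ R] {b n : ℕ}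
    (Q : Ideal (MvPolynomial (Fin n) R)) [Q.IsPrime] (G : Set (V b n R₁)) (x : V b n R₁)
    (h : ∃ s ∉ Q, s • mapV (algebraMap R₁ R) x ∈
      Submodule.span (MvPolynomial (Fin n) R) (mapV (algebraMap R₁ R) '' G) ⊔ CJ b n (Q.comap C)) :
    ∃ t ∉ Q.comap (MvPolynomial.map (algebraMap R₁ R)), t • x ∈ Submodule.span (MvPolynomial (Fin n) R₁) G ⊔
      CJ b n ((Q.comap (MvPolynomial.map (algebraMap R₁ R))).comap C) := by
  classical
  obtain ⟨s, hs, hsx⟩ := h
  let Q₁ := Q.comap (MvPolynomial.map (algebraMap R₁ R))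
  let p := Q.comap C
  let p₁ := Q₁.comap C
  have hpp : p₁ = p.comap (algebraMap R₁ R) := Ideal.ext fun r => by simp [p₁, p, Q₁]
  let k := p.ResidueField
  let k₁ := p₁.ResidueField
  let i : k₁ →+* k := Ideal.ResidueField.map p₁ p (algebraMap R₁ R) hpp
  have hi : i.comp (algebraMap R₁ k₁) = (algebraMap R k).comp (algebraMap R₁ R) :=
    RingHom.ext fun r => Ideal.ResidueField.map_algebraMap _ _ _ hpp r
  let φ := MvPolynomial.map (σ := Fin n) (algebraMap R k)
  let φ₁ := MvPolynomial.map (σ := Fin n) (algebraMap R₁ k₁)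
  let j := MvPolynomial.map (σ := Fin n) i
  have hj : ∀ z, j (φ₁ z) = φ (MvPolynomial.map (algebraMap R₁ R) z) := fun z => by
    simp only [j, φ, φ₁, MvPolynomial.map_map, hi]
  -- the point of the fibre
  let K := Q.ResidueField
  let kK : k →+* K := Ideal.ResidueField.map p Q C rfl
  let ψ : MvPolynomial (Fin n) k →+* K := eval₂Hom kK fun l => algebraMap (MvPolynomial (Fin n) R) K (X l)
  have hψ : ψ.comp φ = algebraMap (MvPolynomial (Fin n) R) K := by
    refine MvPolynomial.ringHom_ext (fun r => ?_) fun l => ?_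
    · simp only [RingHom.comp_apply, φ, ψ, MvPolynomial.map_C, eval₂Hom_C]
      exact Ideal.ResidueField.map_algebraMap _ _ _ rfl r
    · simp [φ, ψ]
  let Qb : Ideal (MvPolynomial (Fin n) k) := RingHom.ker ψ
  have : Qb.IsPrime := RingHom.ker_isPrime ψ
  have hQb : ∀ z, φ z ∈ Qb ↔ z ∈ Q := fun z => by
    rw [RingHom.mem_ker, ← RingHom.comp_apply, hψ, Ideal.algebraMap_residueField_eq_zero]
  let Qb₁ := Qb.comap j
  have hQb₁ : ∀ z, φ₁ z ∈ Qb₁ ↔ z ∈ Q₁ := fun z => by
    rw [Ideal.mem_comap, hj, hQb, Ideal.mem_comap]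
  -- the membership over the fibre
  have hφ0 : ∀ v ∈ CJ b n p, mapV (algebraMap R k) v = 0 := fun v hv => funext fun l => by
    rw [mapV_apply]
    refine MvPolynomial.ext _ _ fun d => ?_
    rw [MvPolynomial.coeff_map, Ideal.algebraMap_residueField_eq_zero.2
      (MvPolynomial.mem_map_C_iff.1 (mem_CJ.1 hv l) d)]
    simp
  let G₁ : Set (V b n k₁) := mapV (algebraMap R₁ k₁) '' G
  have hmem : φ s • mapV i (mapV (algebraMap R₁ k₁) x) ∈ Submodule.span (MvPolynomial (Fin n) k) (mapV i '' G₁) := by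
    obtain ⟨a, ha, c, hc, hac⟩ := Submodule.mem_sup.1 hsx
    have h1 := congrArg (mapV (algebraMap R k)) hac
    rw [mapV_add, hφ0 c hc, add_zero, mapV_smul] at h1
    rw [mapV_mapV, hi, ← mapV_mapV, ← h1, Set.image_image]
    have h2 := mapV_mem_span (algebraMap R k) ha
    rw [Set.image_image] at h2
    convert h2 using 3
    funext g
    rw [mapV_mapV, mapV_mapV, hi]
  -- descend along the local flat map
  letI : Algebra k₁ k := i.toAlgebra
  letI : Algebra (MvPolynomial (Fin n) k₁) (MvPolynomial (Fin n) k) := MvPolynomial.algebraMvPolynomial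
  have hjmap : (algebraMap (MvPolynomial (Fin n) k₁) (MvPolynomial (Fin n) k)) = j := rfl
  haveI : Module.Flat (MvPolynomial (Fin n) k₁) (MvPolynomial (Fin n) k) :=
    Synt29.flat_mvPolynomial_field_ext k₁ k n
  let L₁ := Localization.AtPrime Qb₁
  let L := Localization.AtPrime Qb
  haveI : Qb.LiesOver Qb₁ := ⟨rfl⟩
  letI := Localization.AtPrime.algebraOfLiesOver Qb₁ Qb
  haveI : Module.FaithfullyFlat L₁ L := by
    haveI : IsLocalHom (algebraMap L₁ L) := Localization.isLocalHom_localRingHom Qb₁ Qb j rfl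
    haveI : Module.Flat L₁ L := by
      rw [Module.flat_iff_of_isLocalization L₁ Qb₁.primeCompl L]
      haveI : Module.Flat (MvPolynomial (Fin n) k) L := IsLocalization.flat L Qb.primeCompl
      exact Module.Flat.trans _ (MvPolynomial (Fin n) k) _
    exact Module.FaithfullyFlat.of_flat_of_isLocalHom
  let F := MvPolynomial (Fin n) k
  let F₁ := MvPolynomial (Fin n) k₁
  have hcompat : ∀ v : V b n k₁, (algebraMap F L ∘ mapV i v) = (algebraMap L₁ L ∘ (algebraMap F₁ L₁ ∘ v)) :=
    fun v => funext fun l => by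
      simp only [Function.comp_apply, mapV_apply]
      rw [← IsScalarTower.algebraMap_apply F₁ L₁ L, IsScalarTower.algebraMap_apply F₁ F L]
      rfl
  have hL : (algebraMap L₁ L ∘ (algebraMap F₁ L₁ ∘ mapV (algebraMap R₁ k₁) x)) ∈
      Submodule.span L ((algebraMap L₁ L ∘ ·) '' ((algebraMap F₁ L₁ ∘ ·) '' G₁)) := by
    let f : V b n k →ₗ[F] (Fin b → L) := LinearMap.pi fun l => Algebra.linearMap F L ∘ₗ LinearMap.proj l
    have hu : IsUnit (algebraMap F L (φ s)) :=
      IsLocalization.map_units L (⟨φ s, fun h => hs ((hQb s).1 h)⟩ : Qb.primeCompl)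
    rw [← hcompat, ← Submodule.smul_mem_iff_of_isUnit _ hu, algebraMap_smul]
    have h3 := Submodule.apply_mem_span_image_of_mem_span f hmem
    rw [map_smul, Set.image_image] at h3
    refine Submodule.span_le_restrictScalars F L _ ?_
    rw [show ((fun w : Fin b → L₁ => algebraMap L₁ L ∘ w) '' ((fun v : V b n k₁ => algebraMap F₁ L₁ ∘ v) '' G₁)) =
      (fun v => f (mapV i v)) '' G₁ by
        rw [Set.image_image]
        exact Set.image_congr fun v _ => (hcompat v).symm]
    exact h3
  obtain ⟨t, ht, htx⟩ := exists_smul_mem_span_atPrime Qb₁ G₁ (mapV (algebraMap R₁ k₁) x)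
    (mem_span_of_faithfullyFlat (A := L₁) (B := L) _ _ hL)
  -- clear denominators
  have hclear : ∀ y ∈ Submodule.span F₁ G₁, ∃ c ∉ p₁, ∃ w ∈ Submodule.span (MvPolynomial (Fin n) R₁) G,
      mapV (algebraMap R₁ k₁) w = (C (algebraMap R₁ k₁ c) : F₁) • y := by
    intro y hy
    induction hy using Submodule.span_induction with
    | mem y hy =>
      obtain ⟨g, hg, rfl⟩ := hy
      exact ⟨1, (Ideal.ne_top_iff_one p₁).1 Ideal.IsPrime.ne_top', g, Submodule.subset_span hg,
        by rw [map_one, map_one, one_smul]⟩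
    | zero => exact ⟨1, (Ideal.ne_top_iff_one p₁).1 Ideal.IsPrime.ne_top', 0, zero_mem _, by simp⟩
    | add y z _ _ hy hz =>
      obtain ⟨c, hc, w, hw, hwy⟩ := hy
      obtain ⟨d, hd, w', hw', hwz⟩ := hz
      refine ⟨c * d, Ideal.IsPrime.mul_notMem inferInstance hc hd, C d • w + C c • w',
        add_mem (Submodule.smul_mem _ _ hw) (Submodule.smul_mem _ _ hw'), ?_⟩
      rw [mapV_add, mapV_smul, mapV_smul, hwy, hwz, MvPolynomial.map_C, MvPolynomial.map_C, smul_smul, smul_smul,
        smul_add, map_mul, map_mul, mul_comm (C (algebraMap R₁ k₁ c))]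
    | smul r y _ hy =>
      obtain ⟨c, hc, w, hw, hwy⟩ := hy
      obtain ⟨d, hd, z, hz⟩ := exists_mul_eq_map p₁ r
      refine ⟨d * c, Ideal.IsPrime.mul_notMem inferInstance hd hc, z • w, Submodule.smul_mem _ _ hw, ?_⟩
      rw [mapV_smul, hz, hwy, smul_smul, smul_smul, map_mul, map_mul]
      congr 1
      ring
  obtain ⟨c, hc, z, hz⟩ := exists_mul_eq_map p₁ t
  obtain ⟨d, hd, w, hw, hwy⟩ := hclear _ htx
  refine ⟨C d * z, ?_, ?_⟩
  · show C d * z ∉ Q₁
    rw [← hQb₁, map_mul]
    refine Ideal.IsPrime.mul_notMem inferInstance ?_ ?_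
    · rw [hQb₁]; exact hd
    · show φ₁ z ∉ Qb₁
      rw [show φ₁ z = C (algebraMap R₁ k₁ c) * t from hz]
      refine Ideal.IsPrime.mul_notMem inferInstance ?_ ht
      have := hQb₁ (C c)
      rw [show φ₁ (C c) = C (algebraMap R₁ k₁ c) from MvPolynomial.map_C _ c] at this
      rw [this]; exact hc
  · refine Submodule.mem_sup.2 ⟨(C c : MvPolynomial (Fin n) R₁) • w, Submodule.smul_mem _ _ hw,
      (C d * z) • x - (C c : MvPolynomial (Fin n) R₁) • w, ?_, add_sub_cancel _ _⟩
    refine mem_CJ.2 fun l => MvPolynomial.mem_map_C_iff.2 fun e => ?_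
    rw [← Ideal.algebraMap_residueField_eq_zero]
    have h0 : mapV (algebraMap R₁ k₁) ((C d * z) • x - (C c : MvPolynomial (Fin n) R₁) • w) = 0 := by
      rw [mapV_sub, mapV_smul, mapV_smul, hwy, map_mul, MvPolynomial.map_C, MvPolynomial.map_C, hz, smul_smul,
        smul_smul, sub_eq_zero]
      congr 1
      ring
    have h1 := congrFun h0 l
    rw [mapV_apply] at h1
    have h2 := congrArg (MvPolynomial.coeff e) h1
    rwa [MvPolynomial.coeff_map] at h2

end Groth.Agent.FibInj
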