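import Groth.Agent.FibInj.Main
import Groth.Agent.QCoh.FlatOver
import Groth.Agent.QCoh.FT
import Groth.Agent.KFlatLib.Scheme.Exact
import Mathlib.Algebra.Homology.ShortComplex.ConcreteCategory

/-!
# Maps of sheaves injective on fibres, in affine charts
-/

set_option autoImplicit false
set_option linter.style.haveILetI false

universe u

open CategoryTheory CategoryTheory.Limits AlgebraicGeometry Groth.Agent

namespace Groth.Agent.FibInj

variable {X Y : Scheme.{u}} (f : X ⟶ Y) {F' F : X.Modules} (u : F' ⟶ F) (x : X)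

/-- The stalk map, linear over the local ring. -/
noncomputable def ux : F'.presheaf.stalk x →ₗ[X.presheaf.stalk x] F.presheaf.stalk x := Algz.stalkMapₗ u x

theorem ux_apply (m : F'.presheaf.stalk x) :
    ux u x m = (TopCat.Presheaf.stalkFunctor Ab x).map (Scheme.Modules.Hom.mapPresheaf u) m := rfl

/-- The stalk of the cokernel. -/
theorem nonempty_coker_stalk_equiv :
    Nonempty (((cokernel u).presheaf.stalk x) ≃ₗ[X.presheaf.stalk x]
      F.presheaf.stalk x ⧸ LinearMap.range (ux u x)) := by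
  let S : ShortComplex X.Modules := ShortComplex.mk u (cokernel.π u) (cokernel.condition u)
  have hS : S.Exact := ShortComplex.exact_of_g_is_cokernel S (cokernelIsCokernel u)
  have hSx := (KFlatLib.exact_iff_stalk S).1 hS x
  haveI : Epi ((DerSch.stalkFunctor X x).map (cokernel.π u)) := inferInstance
  have hsurj := (ModuleCat.epi_iff_surjective ((DerSch.stalkFunctor X x).map (cokernel.π u))).1 inferInstance
  have hex := (ShortComplex.moduleCat_exact_iff_range_eq_ker _).1 hSx
  exact ⟨(LinearEquiv.trans (Submodule.quotEquivOfEq _ _ hex)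
    (LinearMap.quotKerEquivOfSurjective _ hsurj)).symm⟩

variable {U : X.Opens} (hU : IsAffineOpen U) {V : Y.Opens} (hV : IsAffineOpen V) (hle : U ≤ f ⁻¹ᵁ V) (hx : x ∈ U)

/-- The map on sections. -/
noncomputable def uU : Γ(F', U) →ₗ[Γ(X, U)] Γ(F, U) where
  toFun := u.app U
  map_add' := map_add _
  map_smul' := fun r m => Scheme.Modules.Hom.app_smul u r m

theorem ux_germ (m : Γ(F', U)) :
    ux u x (F'.presheaf.germ U x hx m) = F.presheaf.germ U x hx (uU u m) :=
  TopCat.Presheaf.stalkFunctor_map_germ_apply U x hx (Scheme.Modules.Hom.mapPresheaf u) m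

include hx in
/-- Injectivity of the stalk map, on sections. -/
theorem injective_iff (hF' : Coh.IsQCoh F') (hF : Coh.IsQCoh F) :
    Function.Injective (ux u x) ↔
      ∀ m : Γ(F', U), uU u m = 0 → ∃ s ∉ (hU.primeIdealOf ⟨x, hx⟩).asIdeal, s • m = 0 := by
  letI := QCoh.stalkModule F' hx
  letI := QCoh.stalkModule F hx
  letI := QCoh.stalkAlg (X := X) hx
  haveI := QCoh.isLocalizedModule_germLin hF' hU hx
  haveI := QCoh.isLocalizedModule_germLin hF hU hx
  haveI := QCoh.isScalarTower_stalk F' hx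
  haveI := QCoh.isScalarTower_stalk F hx
  let W := (hU.primeIdealOf ⟨x, hx⟩).asIdeal.primeCompl
  constructor
  · intro h m hm
    have h0 : QCoh.germLin F' hx m = 0 := h (by
      show ux u x (F'.presheaf.germ U x hx m) = ux u x 0
      rw [ux_germ u x hx, hm, map_zero (F.presheaf.germ U x hx).hom, map_zero])
    obtain ⟨s, hs⟩ := (IsLocalizedModule.eq_zero_iff W (QCoh.germLin F' hx)).1 h0
    exact ⟨s, s.2, hs⟩
  · intro h
    rw [injective_iff_map_eq_zero]
    intro z hz
    obtain ⟨⟨m, s⟩, hms⟩ := IsLocalizedModule.surj W (QCoh.germLin F' hx) z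
    have h1 : QCoh.germLin F hx (uU u m) = 0 := by
      show F.presheaf.germ U x hx (uU u m) = 0
      rw [← ux_germ u x hx]
      show ux u x (QCoh.germLin F' hx m) = 0
      rw [← hms, Submonoid.smul_def, LinearMap.map_smul_of_tower, hz, smul_zero]
    obtain ⟨t, ht⟩ := (IsLocalizedModule.eq_zero_iff W (QCoh.germLin F hx)).1 h1
    obtain ⟨r, hr, hrm⟩ := h ((t : Γ(X, U)) • m) (by rw [map_smul]; exact ht)
    have h2 : ((⟨r, hr⟩ : W) * t * s) • z = 0 := by
      rw [mul_smul, hms, Submonoid.smul_def, ← map_smul]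
      show QCoh.germLin F' hx ((r * (t : Γ(X, U))) • m) = 0
      rw [mul_smul, hrm, map_zero]
    exact ((Module.End.isUnit_iff _).1 (IsLocalizedModule.map_units (QCoh.germLin F' hx) _)).1
      (h2.trans (map_zero _).symm)

include hU hV hle hx in
/-- Flatness of the cokernel, on sections. -/
theorem flat_coker_iff (hF' : Coh.IsQCoh F') (hF : Coh.IsQCoh F) :
    letI : Module Γ(Y, V) Γ(F, U) := Module.compHom _ (f.appLE V U hle).hom
    letI : Algebra Γ(Y, V) Γ(X, U) := (f.appLE V U hle).hom.toAlgebra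
    haveI : IsScalarTower Γ(Y, V) Γ(X, U) Γ(F, U) := IsScalarTower.of_algebraMap_smul fun _ _ => rfl
    (FlatMod.IsFlatOverAt f (cokernel u) x ↔ Module.Flat Γ(Y, V)
      (LocalizedModule (hU.primeIdealOf ⟨x, hx⟩).asIdeal.primeCompl (Γ(F, U) ⧸ LinearMap.range (uU (U := U) u)))) := by
  letI : Algebra Γ(Y, V) Γ(X, U) := (f.appLE V U hle).hom.toAlgebra
  letI : Module Γ(Y, V) Γ(F, U) := Module.compHom _ (f.appLE V U hle).hom
  haveI : IsScalarTower Γ(Y, V) Γ(X, U) Γ(F, U) := IsScalarTower.of_algebraMap_smul fun _ _ => rfl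
  obtain ⟨e⟩ := nonempty_coker_stalk_equiv u x
  rw [QCoh.isFlatOverAt_iff f hV hle hx]
  letI := QCoh.stalkModule F' hx
  letI := QCoh.stalkModule F hx
  letI := QCoh.stalkAlg (X := X) hx
  haveI := QCoh.isLocalization_stalk' hU hx
  haveI := QCoh.isLocalizedModule_germLin hF' hU hx
  haveI := QCoh.isLocalizedModule_germLin hF hU hx
  haveI := QCoh.isScalarTower_stalk F' hx
  haveI := QCoh.isScalarTower_stalk F hx
  let W := (hU.primeIdealOf ⟨x, hx⟩).asIdeal.primeCompl
  letI : Module Γ(Y, V) ((cokernel u).presheaf.stalk x) :=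
    Module.compHom _ ((f.appLE V U hle) ≫ X.presheaf.germ U x hx).hom
  letI : Module Γ(Y, V) (F.presheaf.stalk x) :=
    Module.compHom _ ((f.appLE V U hle) ≫ X.presheaf.germ U x hx).hom
  letI : Algebra Γ(Y, V) (X.presheaf.stalk x) := ((f.appLE V U hle) ≫ X.presheaf.germ U x hx).hom.toAlgebra
  haveI : IsScalarTower Γ(Y, V) (X.presheaf.stalk x) ((cokernel u).presheaf.stalk x) :=
    IsScalarTower.of_algebraMap_smul fun _ _ => rfl
  haveI : IsScalarTower Γ(Y, V) (X.presheaf.stalk x) (F.presheaf.stalk x) :=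
    IsScalarTower.of_algebraMap_smul fun _ _ => rfl
  haveI : IsScalarTower Γ(Y, V) Γ(X, U) (F.presheaf.stalk x) := IsScalarTower.of_algebraMap_smul fun _ _ => rfl
  have hrange : (LinearMap.range (uU (U := U) u)).localized' (X.presheaf.stalk x) W (QCoh.germLin F hx) =
      LinearMap.range (ux u x) := by
    rw [Submodule.localized'_eq_span]
    apply le_antisymm
    · rw [Submodule.span_le]
      rintro _ ⟨_, ⟨m, rfl⟩, rfl⟩
      exact ⟨F'.presheaf.germ U x hx m, ux_germ u x hx m⟩
    · rintro _ ⟨z, rfl⟩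
      obtain ⟨⟨m, s⟩, hms⟩ := IsLocalizedModule.surj W (QCoh.germLin F' hx) z
      rw [← Submodule.smul_mem_iff_of_isUnit _ (IsLocalization.map_units (X.presheaf.stalk x) s), algebraMap_smul,
        ← LinearMap.map_smul_of_tower, ← Submonoid.smul_def, hms]
      exact Submodule.subset_span ⟨uU u m, ⟨m, rfl⟩, (ux_germ u x hx m).symm⟩
  let C := Γ(F, U) ⧸ LinearMap.range (uU (U := U) u)
  let qC := (LinearMap.range (uU (U := U) u)).toLocalizedQuotient' (X.presheaf.stalk x) W (QCoh.germLin F hx)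
  let e' := (((e.trans (Submodule.quotEquivOfEq _ _ hrange.symm)).restrictScalars Γ(Y, V))).trans
    ((IsLocalizedModule.iso W qC).symm.restrictScalars Γ(Y, V))
  exact Module.Flat.equiv_iff e'

include hV hle hx in
/-- Injectivity on the fibre, on sections. -/
theorem fibre_iff (hF' : Coh.IsQCoh F') (hF : Coh.IsQCoh F) :
    letI : Algebra Γ(Y, V) Γ(X, U) := (f.appLE V U hle).hom.toAlgebra
    ((∀ m : ↑(F'.presheaf.stalk x),
        ux u x m ∈ ((IsLocalRing.maximalIdeal ↑(Y.presheaf.stalk (f x))).map (f.stalkMap x).hom •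
          (⊤ : Submodule ↑(X.presheaf.stalk x) ↑(F.presheaf.stalk x))) →
        m ∈ ((IsLocalRing.maximalIdeal ↑(Y.presheaf.stalk (f x))).map (f.stalkMap x).hom •
          (⊤ : Submodule ↑(X.presheaf.stalk x) ↑(F'.presheaf.stalk x)))) ↔
      FibreInjective ((hU.primeIdealOf ⟨x, hx⟩).asIdeal.comap (algebraMap Γ(Y, V) Γ(X, U)))
        (hU.primeIdealOf ⟨x, hx⟩).asIdeal.primeCompl (uU (U := U) u)) := by
  letI : Algebra Γ(Y, V) Γ(X, U) := (f.appLE V U hle).hom.toAlgebra
  letI := QCoh.stalkModule F' hx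
  letI := QCoh.stalkModule F hx
  letI := QCoh.stalkAlg (X := X) hx
  haveI := QCoh.isLocalization_stalk' hU hx
  haveI := QCoh.isLocalizedModule_germLin hF' hU hx
  haveI := QCoh.isLocalizedModule_germLin hF hU hx
  haveI := QCoh.isScalarTower_stalk F' hx
  haveI := QCoh.isScalarTower_stalk F hx
  let q := (hU.primeIdealOf ⟨x, hx⟩).asIdeal
  let W := q.primeCompl
  let O := X.presheaf.stalk x
  letI := QCoh.stalkAlg (X := Y) (hle hx)
  haveI := QCoh.isLocalization_stalk' hV (hle hx)
  have hsq : (f.stalkMap x).hom.comp (Y.presheaf.germ V (f x) (hle hx)).hom =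
      (algebraMap Γ(X, U) O).comp (algebraMap Γ(Y, V) Γ(X, U)) := RingHom.ext fun a => by
    show f.stalkMap x (Y.presheaf.germ V (f x) (hle hx) a) = X.presheaf.germ U x hx (f.appLE V U hle a)
    rw [Scheme.Hom.germ_stalkMap_apply f V x (hle hx) a]
    exact (X.presheaf.germ_res_apply (homOfLE hle) x hx _).symm
  have hp : q.comap (algebraMap Γ(Y, V) Γ(X, U)) = (hV.primeIdealOf ⟨f x, hle hx⟩).asIdeal := by
    have h1 : q = (IsLocalRing.maximalIdeal O).comap (algebraMap Γ(X, U) O) :=
      (IsLocalization.AtPrime.comap_maximalIdeal O q).symm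
    rw [h1, Ideal.comap_comap, ← hsq, ← Ideal.comap_comap, IsLocalRing.maximalIdeal_comap]
    exact IsLocalization.AtPrime.comap_maximalIdeal (Y.presheaf.stalk (f x)) _
  have hJ : (IsLocalRing.maximalIdeal ↑(Y.presheaf.stalk (f x))).map (f.stalkMap x).hom =
      ((q.comap (algebraMap Γ(Y, V) Γ(X, U))).map (algebraMap Γ(Y, V) Γ(X, U))).map (algebraMap Γ(X, U) O) := by
    rw [hp, ← IsLocalization.AtPrime.map_eq_maximalIdeal (hV.primeIdealOf ⟨f x, hle hx⟩).asIdeal
      (Y.presheaf.stalk (f x)), Ideal.map_map, Ideal.map_map, ← hsq]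
    rfl
  rw [hJ]
  constructor
  · rintro h m ⟨s, hs, hsm⟩
    have h1 : ux u x (QCoh.germLin F' hx m) ∈ (((q.comap (algebraMap Γ(Y, V) Γ(X, U))).map
        (algebraMap Γ(Y, V) Γ(X, U))).map (algebraMap Γ(X, U) O) • ⊤ : Submodule O (F.presheaf.stalk x)) := by
      rw [show ux u x (QCoh.germLin F' hx m) = QCoh.germLin F hx (uU u m) from ux_germ u x hx m,
        mem_smul_localized (B := O) W (QCoh.germLin F hx)]
      exact ⟨s, hs, hsm⟩
    obtain ⟨t, ht, htm⟩ := (mem_smul_localized (B := O) W (QCoh.germLin F' hx) _ m).1 (h _ h1)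
    exact ⟨t, ht, htm⟩
  · intro h z hz
    obtain ⟨⟨m, s⟩, hms⟩ := IsLocalizedModule.surj W (QCoh.germLin F' hx) z
    rw [← Submodule.smul_mem_iff_of_isUnit _ (IsLocalization.map_units O s), algebraMap_smul, ← Submonoid.smul_def,
      hms, mem_smul_localized (B := O) W (QCoh.germLin F' hx)]
    refine h m ((mem_smul_localized (B := O) W (QCoh.germLin F hx) _ (uU u m)).1 ?_)
    rw [show QCoh.germLin F hx (uU u m) = ux u x (QCoh.germLin F' hx m) from (ux_germ u x hx m).symm, ← hms,
      Submonoid.smul_def, LinearMap.map_smul_of_tower]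
    exact Submodule.smul_of_tower_mem _ _ hz

end Groth.Agent.FibInj
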