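import Groth.Agent.FibInj.Sheaf
import Groth.Agent.FlatFunHx.Stalk
import Groth.Agent.FlatLimHx.Flat
import Groth.Agent.MorLib.FlatBC
import Groth.Agent.S4851

/-!
# Injective maps of sheaves with flat cokernel at a point
-/

set_option autoImplicit false
set_option linter.style.haveILetI false

universe u

open CategoryTheory CategoryTheory.Limits AlgebraicGeometry Groth.Agent

namespace Groth.Agent.FibInj

variable {X Y : Scheme.{u}}

/-- The stalk map is injective and the cokernel is flat over the base. -/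
def Good (f : X ⟶ Y) {F G : X.Modules} (h : F ⟶ G) (x : X) : Prop :=
  Function.Injective ((TopCat.Presheaf.stalkFunctor Ab x).map (Scheme.Modules.Hom.mapPresheaf h)) ∧
    FlatMod.IsFlatOverAt f (cokernel h) x

theorem injective_iff_mono {F G : X.Modules} (h : F ⟶ G) (x : X) :
    Function.Injective ((TopCat.Presheaf.stalkFunctor Ab x).map (Scheme.Modules.Hom.mapPresheaf h)) ↔
      Mono ((DerSch.stalkFunctor X x).map h) :=
  (ModuleCat.mono_iff_injective ((DerSch.stalkFunctor X x).map h)).symm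

theorem good_of_arrowIso (f : X ⟶ Y) {F G F' G' : X.Modules} {h : F ⟶ G} {h' : F' ⟶ G'}
    (e : Arrow.mk h ≅ Arrow.mk h') (x : X) (hh : Good f h x) : Good f h' x := by
  refine ⟨(injective_iff_mono h' x).2 ?_, GrFlat5.isFlatOverAt_of_iso f
    (cokernel.mapIso h h' (Arrow.leftFunc.mapIso e) (Arrow.rightFunc.mapIso e) (Arrow.w e.hom).symm) x hh.2⟩
  exact ((MorphismProperty.monomorphisms _).arrow_mk_iso_iff
    ((DerSch.stalkFunctor X x).mapArrow.mapIso e)).1 ((injective_iff_mono h x).1 hh.1)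

theorem good_iff_of_arrowIso (f : X ⟶ Y) {F G F' G' : X.Modules} {h : F ⟶ G} {h' : F' ⟶ G'}
    (e : Arrow.mk h ≅ Arrow.mk h') (x : X) : Good f h x ↔ Good f h' x :=
  ⟨good_of_arrowIso f e x, good_of_arrowIso f e.symm x⟩

theorem good_congr (f : X ⟶ Y) {F G : X.Modules} {h : F ⟶ G} {x x' : X} (e : x = x') :
    Good f h x ↔ Good f h x' := by
  subst e; rfl

/-- Restriction along an open immersion. -/
theorem good_restrict_iff {X' : Scheme.{u}} (f : X ⟶ Y) (a : X' ⟶ X) [IsOpenImmersion a] {F G : X.Modules}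
    (h : F ⟶ G) (x : X') : Good (a ≫ f) ((Scheme.Modules.pullback a).map h) x ↔ Good f h (a x) := by
  haveI : (Scheme.Modules.pullback a).IsLeftAdjoint :=
    (Scheme.Modules.pullbackPushforwardAdjunction a).isLeftAdjoint
  let e := PreservesCokernel.iso (Scheme.Modules.pullback a) h
  refine and_congr ((injective_iff_mono _ x).trans ((FlatFunHx.mono_stalk_pullback_iff a h x).trans
    (injective_iff_mono h (a x)).symm)) ⟨fun hf => ?_, fun hf => ?_⟩
  · exact FlatLimHx.isFlatOverAt_of_pullback f a (cokernel h) x (GrFlat5.isFlatOverAt_of_iso _ e.symm x hf)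
  · exact GrFlat5.isFlatOverAt_of_iso _ e x
      (FlatFunHx.isFlatOverAt_pullback_of_flat f a (cokernel h) x (Flat.stalkMap a x) hf)

theorem isFlatOverAt_comp_openImmersion {Y' : Scheme.{u}} (f : X ⟶ Y') (b : Y' ⟶ Y) [IsOpenImmersion b]
    (M : X.Modules) (x : X) : FlatMod.IsFlatOverAt (f ≫ b) M x ↔ FlatMod.IsFlatOverAt f M x := by
  letI : Algebra (Y.presheaf.stalk (b (f x))) (Y'.presheaf.stalk (f x)) := (b.stalkMap (f x)).hom.toAlgebra
  letI := FlatMod.moduleStalkOver f M x
  letI : Module (Y.presheaf.stalk (b (f x))) (M.presheaf.stalk x) := FlatMod.moduleStalkOver (f ≫ b) M x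
  haveI : IsScalarTower (Y.presheaf.stalk (b (f x))) (Y'.presheaf.stalk (f x)) (M.presheaf.stalk x) :=
    .of_algebraMap_smul fun r m => by
      show ((f.stalkMap x).hom ((b.stalkMap (f x)).hom r)) • m = ((f ≫ b).stalkMap x).hom r • m
      rw [Scheme.Hom.stalkMap_comp]; rfl
  have hbij : Function.Bijective (b.stalkMap (f x)).hom :=
    ConcreteCategory.bijective_of_isIso (b.stalkMap (f x))
  haveI : IsLocalization (⊥ : Submonoid (Y.presheaf.stalk (b (f x)))) (Y'.presheaf.stalk (f x)) :=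
    haveI : IsLocalization (⊥ : Submonoid (Y.presheaf.stalk (b (f x)))) (Y.presheaf.stalk (b (f x))) :=
      IsLocalization.self bot_le
    IsLocalization.isLocalization_of_algEquiv _
      (AlgEquiv.ofBijective (Algebra.ofId (Y.presheaf.stalk (b (f x))) (Y'.presheaf.stalk (f x))) hbij)
  exact (Module.flat_iff_of_isLocalization (Y'.presheaf.stalk (f x)) (⊥ : Submonoid (Y.presheaf.stalk (b (f x))))
    (M.presheaf.stalk x)).symm

/-- Open immersions in the target. -/
theorem good_comp_iff {Y' : Scheme.{u}} (f : X ⟶ Y') (b : Y' ⟶ Y) [IsOpenImmersion b] {F G : X.Modules}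
    (h : F ⟶ G) (x : X) : Good (f ≫ b) h x ↔ Good f h x :=
  and_congr Iff.rfl (isFlatOverAt_comp_openImmersion f b _ x)

/-- Restriction of a pulled back map to open subschemes. -/
theorem good_pullback_restrict_iff {X₀ X₀' X' Y' : Scheme.{u}} (f : X ⟶ Y) (f' : X' ⟶ Y') (a : X' ⟶ X)
    [IsOpenImmersion a] (b : Y' ⟶ Y) [IsOpenImmersion b] (hw : f' ≫ b = a ≫ f) (q : X ⟶ X₀) (q' : X' ⟶ X₀')
    (a₀ : X₀' ⟶ X₀) (hq : q' ≫ a₀ = a ≫ q) {F G : X₀.Modules} (h : F ⟶ G) (x : X') :
    Good f' ((Scheme.Modules.pullback q').map ((Scheme.Modules.pullback a₀).map h)) x ↔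
      Good f ((Scheme.Modules.pullback q).map h) (a x) := by
  rw [← good_restrict_iff f a, ← hw, good_comp_iff f' b]
  exact good_iff_of_arrowIso f' (FlatLimHx.pullbackCompArrow q' a₀ h ≪≫ FlatLimHx.pullbackEqArrow hq h ≪≫
    (FlatLimHx.pullbackCompArrow a q h).symm) x

end Groth.Agent.FibInj
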