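import Groth.Agent.FlatModel.Open
import Groth.Agent.S0393
import Mathlib

/-!
# Maps injective on a fibre, over a Noetherian base
-/

set_option autoImplicit false
set_option linter.style.haveILetI false

universe u

open TensorProduct IsLocalRing

namespace Groth.Agent.FibInj

/-- `u` is injective on the fibre over `p`, locally at `W`. -/
def FibreInjective {A S N M : Type u} [CommRing A] [CommRing S] [Algebra A S] [AddCommGroup N] [Module S N]
    [AddCommGroup M] [Module S M] (p : Ideal A) (W : Submonoid S) (u : N →ₗ[S] M) : Prop :=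
  ∀ x : N, (∃ s ∈ W, s • u x ∈ (p.map (algebraMap A S) • ⊤ : Submodule S M)) →
    ∃ s ∈ W, s • x ∈ (p.map (algebraMap A S) • ⊤ : Submodule S N)

variable {A S N M : Type u} [CommRing A] [CommRing S] [Algebra A S] [AddCommGroup N] [Module S N]
  [AddCommGroup M] [Module S M] [Module A M] [IsScalarTower A S M]

theorem mem_smul_localized {S B X Y : Type u} [CommRing S] [CommRing B] [Algebra S B] [AddCommGroup X] [Module S X]
    [AddCommGroup Y] [Module S Y] [Module B Y] [IsScalarTower S B Y] (W : Submonoid S) [IsLocalization W B]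
    (f : X →ₗ[S] Y) [IsLocalizedModule W f] (I : Ideal S) (x : X) :
    f x ∈ (I.map (algebraMap S B) • ⊤ : Submodule B Y) ↔ ∃ s ∈ W, s • x ∈ (I • ⊤ : Submodule S X) := by
  rw [show (I.map (algebraMap S B) • ⊤ : Submodule B Y) = (I • ⊤ : Submodule S X).localized' B W f by
    rw [Submodule.localized'_smul, Ideal.localized'_eq_map, Submodule.localized'_top]]
  rw [Submodule.mem_localized']
  constructor
  · rintro ⟨m, hm, t, hmt⟩
    rw [← IsLocalizedModule.mk'_one W f x, IsLocalizedModule.mk'_eq_mk'_iff] at hmt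
    obtain ⟨c, hc⟩ := hmt
    simp only [Submonoid.smul_def, OneMemClass.coe_one, one_smul] at hc
    refine ⟨(c : S) * t, W.mul_mem c.2 t.2, ?_⟩
    rw [mul_smul, hc]
    exact Submodule.smul_mem _ _ hm
  · rintro ⟨s, hs, hx⟩
    refine ⟨s • x, hx, ⟨s, hs⟩, ?_⟩
    rw [IsLocalizedModule.mk'_eq_iff, map_smul]
    rfl

/-- Noetherian form: injective with flat cokernel at a prime. -/
theorem flat_coker_noetherian [IsNoetherianRing A] [Algebra.FiniteType A S] [Module.Finite S N] [Module.Finite S M]
    (u : N →ₗ[S] M) (q : Ideal S) [q.IsPrime] (hflat : Module.Flat A (LocalizedModule q.primeCompl M))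
    (hinj : FibreInjective (q.comap (algebraMap A S)) q.primeCompl u) :
    ∃ g ∉ q, (∀ x, u x = 0 → ∃ k : ℕ, g ^ k • x = 0) ∧
      Module.Flat A (LocalizedModule (Submonoid.powers g) (M ⧸ LinearMap.range u)) := by
  classical
  haveI : IsNoetherianRing S := Algebra.FiniteType.isNoetherianRing A S
  haveI : Algebra.FinitePresentation A S := Algebra.FinitePresentation.of_finiteType.1 ‹_›
  let p := q.comap (algebraMap A S)
  let L := Localization.AtPrime p
  let B := Localization.AtPrime q
  haveI : q.LiesOver p := ⟨rfl⟩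
  letI := Localization.AtPrime.algebraOfLiesOver p q
  haveI : IsLocalHom (algebraMap L B) := Localization.isLocalHom_localRingHom p q (algebraMap A S) Ideal.LiesOver.over
  let NB := LocalizedModule q.primeCompl N
  let MB := LocalizedModule q.primeCompl M
  let ℓN : N →ₗ[S] NB := LocalizedModule.mkLinearMap q.primeCompl N
  let ℓM : M →ₗ[S] MB := LocalizedModule.mkLinearMap q.primeCompl M
  letI := Module.compHom NB (algebraMap L B)
  letI := Module.compHom MB (algebraMap L B)
  haveI : IsScalarTower L B NB := .of_algebraMap_smul fun _ _ => rfl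
  haveI : IsScalarTower L B MB := .of_algebraMap_smul fun _ _ => rfl
  haveI : IsScalarTower A L MB := .of_algebraMap_smul fun r x => by
    show algebraMap L B (algebraMap A L r) • x = r • x
    rw [← IsScalarTower.algebraMap_apply, algebraMap_smul]
  haveI : Module.Flat L MB := (Module.flat_iff_of_isLocalization L p.primeCompl MB).2 hflat
  let uB : NB →ₗ[B] MB := IsLocalizedModule.mapExtendScalars q.primeCompl ℓN ℓM B u
  have huB : ∀ x, uB (ℓN x) = ℓM (u x) := fun x => by
    simp [uB, ℓN, ℓM]
  have hm : (maximalIdeal L).map (algebraMap L B) = (p.map (algebraMap A S)).map (algebraMap S B) := by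
    rw [← Localization.AtPrime.map_eq_maximalIdeal, Ideal.map_map, Ideal.map_map, ← IsScalarTower.algebraMap_eq,
      ← IsScalarTower.algebraMap_eq]
  have hsm : ∀ (Y : Type u) [AddCommGroup Y] [Module B Y] [Module L Y] [IsScalarTower L B Y] (y : Y),
      y ∈ (maximalIdeal L • ⊤ : Submodule L Y) ↔ y ∈ ((p.map (algebraMap A S)).map (algebraMap S B) • ⊤ : Submodule B Y) := by
    intro Y _ _ _ _ y
    rw [← hm]
    conv_rhs => rw [← Submodule.restrictScalars_mem L, Ideal.smul_restrictScalars, Submodule.restrictScalars_top]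
  have hmod : ∀ x : NB, uB x ∈ (maximalIdeal L • ⊤ : Submodule L MB) → x ∈ (maximalIdeal L • ⊤ : Submodule L NB) := by
    intro x hx
    obtain ⟨⟨x₀, s⟩, hxs⟩ := IsLocalizedModule.surj q.primeCompl ℓN x
    rw [hsm] at hx ⊢
    have hs : IsUnit (algebraMap S B s) := IsLocalization.map_units B s
    rw [← Submodule.smul_mem_iff_of_isUnit _ hs, algebraMap_smul]
    rw [← Submonoid.smul_def, hxs, mem_smul_localized q.primeCompl ℓN]
    refine hinj x₀ ?_
    rw [← mem_smul_localized (B := B) q.primeCompl ℓM, ← huB, ← hxs, Submonoid.smul_def,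
      LinearMap.map_smul_of_tower]
    exact Submodule.smul_of_tower_mem _ _ hx
  let e : ∀ (Y : Type u) [AddCommGroup Y] [Module L Y],
      ResidueField L ⊗[L] Y ≃ₗ[L] Y ⧸ (maximalIdeal L • ⊤ : Submodule L Y) :=
    fun Y _ _ => TensorProduct.quotTensorEquivQuotSMul Y (maximalIdeal L)
  have hlT : Function.Injective ((uB.restrictScalars L).lTensor (ResidueField L)) := by
    rw [injective_iff_map_eq_zero]
    intro z hz
    obtain ⟨x, rfl⟩ := TensorProduct.mk_surjective L NB (ResidueField L) Ideal.Quotient.mk_surjective z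
    have h1 : e MB ((1 : ResidueField L) ⊗ₜ uB x) = 0 := by
      rw [show ((1 : ResidueField L) ⊗ₜ[L] uB x) = 0 from hz, map_zero]
    apply (e NB).injective
    have key : ∀ (Y : Type u) [AddCommGroup Y] [Module L Y] (y : Y),
        e Y ((1 : ResidueField L) ⊗ₜ[L] y) = Submodule.Quotient.mk y := fun Y _ _ y =>
      (TensorProduct.quotTensorEquivQuotSMul_mk_tmul (maximalIdeal L) 1 y).trans (by rw [one_smul])
    show e NB ((1 : ResidueField L) ⊗ₜ[L] x) = e NB 0
    rw [key, Submodule.Quotient.mk_eq_zero] at h1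
    rw [map_zero, key, Submodule.Quotient.mk_eq_zero]
    exact hmod x h1
  obtain ⟨hi, hf⟩ := Groth.Agent.S0393.result (S := B) (uB.restrictScalars L) hlT
  -- the cokernel at `q`
  have hrange : (LinearMap.range u).localized' B q.primeCompl ℓM = LinearMap.range uB :=
    LinearMap.localized'_range_eq_range_localizedMap B q.primeCompl ℓN ℓM u
  haveI : Module.Flat A L := IsLocalization.flat L p.primeCompl
  haveI := hf
  haveI : Module.Flat L (MB ⧸ (LinearMap.range uB).restrictScalars L) :=
    Module.Flat.of_linearEquiv (Submodule.quotEquivOfEq _ _ (LinearMap.range_restrictScalars (R := L) uB).symm)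
  haveI : Module.Flat L (MB ⧸ LinearMap.range uB) :=
    Module.Flat.of_linearEquiv (Submodule.Quotient.restrictScalarsEquiv L (LinearMap.range uB)).symm
  haveI : Module.Flat A (MB ⧸ LinearMap.range uB) := Module.Flat.trans A L _
  let C := M ⧸ LinearMap.range u
  let qC : C →ₗ[S] MB ⧸ (LinearMap.range u).localized' B q.primeCompl ℓM :=
    (LinearMap.range u).toLocalizedQuotient' B q.primeCompl ℓM
  haveI : Module.Flat A (MB ⧸ (LinearMap.range u).localized' B q.primeCompl ℓM) :=
    Module.Flat.of_linearEquiv ((Submodule.quotEquivOfEq _ _ hrange).restrictScalars A)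
  have hCq : Module.Flat A (LocalizedModule q.primeCompl C) :=
    Module.Flat.of_linearEquiv ((IsLocalizedModule.iso q.primeCompl qC).restrictScalars A)
  haveI : Module.FinitePresentation S C := Module.finitePresentation_iff_finite _ _ |>.2 inferInstance
  obtain ⟨g₁, hg₁, hflat₁⟩ := FlatModel.exists_flat_nhd (R := A) C q hCq
  -- the kernel near `q`
  obtain ⟨T, hT⟩ := (IsNoetherian.noetherian (LinearMap.ker u) : (LinearMap.ker u).FG)
  have hkill : ∀ x ∈ T, ∃ s ∉ q, s • x = 0 := by
    intro x hx
    have hx0 : u x = 0 := hT.le (Submodule.subset_span hx)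
    have : ℓN x = 0 := hi (by rw [map_zero]; exact (huB x).trans (by rw [hx0, map_zero]))
    obtain ⟨s, hs⟩ := (IsLocalizedModule.eq_zero_iff q.primeCompl ℓN).1 this
    exact ⟨s, s.2, hs⟩
  choose! s hs hsx using hkill
  let g₂ := ∏ x ∈ T, s x
  have hg₂ : g₂ ∉ q := fun h => by
    obtain ⟨x, hx, hxq⟩ := (Ideal.IsPrime.prod_mem_iff).1 h
    exact hs x hx hxq
  refine ⟨g₁ * g₂, Ideal.IsPrime.mul_notMem ‹_› hg₁ hg₂, fun x hx => ⟨1, ?_⟩, ?_⟩
  · have hle : LinearMap.ker u ≤ LinearMap.ker (LinearMap.lsmul S N (g₁ * g₂)) := by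
      rw [← hT, Submodule.span_le]
      intro y hy
      show (g₁ * g₂) • y = 0
      obtain ⟨c, hc⟩ := Finset.dvd_prod_of_mem s hy
      rw [show g₂ = s y * c from hc, mul_comm (s y) c, ← mul_assoc, mul_smul, hsx y hy, smul_zero]
    rw [pow_one]
    exact hle hx
  · have h1 := hflat₁ (Submonoid.closure {g₁, g₂}) (Submonoid.subset_closure (Or.inl rfl))
    rw [FlatModel.flat_localized_iff (Submonoid.powers (g₁ * g₂)) (LocalizedModule.mkLinearMap _ C)]
    intro J y hy
    obtain ⟨t, ht, hty⟩ := (FlatModel.flat_localized_iff (Submonoid.closure {g₁, g₂})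
      (LocalizedModule.mkLinearMap (Submonoid.closure {g₁, g₂}) C)).1 h1 J y hy
    obtain ⟨i, j, rfl⟩ := (Submonoid.mem_closure_pair _ _ _).1 ht
    refine ⟨(g₁ * g₂) ^ (i + j), ⟨i + j, rfl⟩, ?_⟩
    rw [show (g₁ * g₂) ^ (i + j) = g₁ ^ j * g₂ ^ i * (g₁ ^ i * g₂ ^ j) by ring, mul_smul, hty, smul_zero]

end Groth.Agent.FibInj
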