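import Groth.Agent.FlatModel.Local
import Groth.Agent.W4Lib.Flat
import Mathlib

/-!
# Injectivity with flat cokernel is stable under base change
-/

set_option autoImplicit false
set_option linter.style.haveILetI false

universe u

open TensorProduct

namespace Groth.Agent.FibInj

variable {R₁ R P₁ P : Type u} [CommRing R₁] [CommRing R] [Algebra R₁ R] [CommRing P₁] [Algebra R₁ P₁]
  [CommRing P] [Algebra R P] (φ : P₁ →+* P)

theorem liftBaseChange_smul {X₁ X : Type u} [AddCommGroup X₁] [Module R₁ X₁] [Module P₁ X₁] [IsScalarTower R₁ P₁ X₁]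
    [AddCommGroup X] [Module R X] [Module P X] [IsScalarTower R P X] [Module R₁ X] [IsScalarTower R₁ R X]
    (ψ : X₁ →ₗ[R₁] X) (hψ : ∀ (p : P₁) (x : X₁), ψ (p • x) = φ p • ψ x) (p : P₁) (z : X₁ ⊗[R₁] R) :
    ψ.liftBaseChange R (TensorProduct.comm R₁ X₁ R (p • z)) =
      φ p • ψ.liftBaseChange R (TensorProduct.comm R₁ X₁ R z) := by
  induction z using TensorProduct.induction_on with
  | zero => simp
  | add a b ha hb => simp only [smul_add, map_add, ha, hb]
  | tmul x r => simp [TensorProduct.smul_tmul', hψ, smul_comm r]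

/-- The kernel is killed by powers of `g`. -/
theorem transfer_ker {N₁ M₁ N M : Type u} [AddCommGroup N₁] [Module R₁ N₁] [Module P₁ N₁] [IsScalarTower R₁ P₁ N₁]
    [AddCommGroup M₁] [Module R₁ M₁] [Module P₁ M₁] [IsScalarTower R₁ P₁ M₁]
    [AddCommGroup N] [Module R N] [Module P N] [IsScalarTower R P N] [Module R₁ N] [IsScalarTower R₁ R N]
    [AddCommGroup M] [Module R M] [Module P M] [IsScalarTower R P M] [Module R₁ M] [IsScalarTower R₁ R M]
    (ψN : N₁ →ₗ[R₁] N) (hψN : ∀ (p : P₁) (x : N₁), ψN (p • x) = φ p • ψN x)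
    (hNs : Function.Surjective (ψN.liftBaseChange R))
    (ψM : M₁ →ₗ[R₁] M) (hψM : ∀ (p : P₁) (x : M₁), ψM (p • x) = φ p • ψM x)
    (hMb : Function.Bijective (ψM.liftBaseChange R))
    (u₁ : N₁ →ₗ[P₁] M₁) (u : N →ₗ[P] M) (hu : ∀ x, u (ψN x) = ψM (u₁ x)) (g : P₁)
    (hker : ∀ x, u₁ x = 0 → ∃ k : ℕ, g ^ k • x = 0)
    (hflat : Module.Flat R₁ (LocalizedModule (Submonoid.powers g) (M₁ ⧸ LinearMap.range u₁))) :
    ∀ z, u z = 0 → ∃ k : ℕ, φ g ^ k • z = 0 := by
  let W := Submonoid.powers g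
  let ΘN : N₁ ⊗[R₁] R →ₗ[R₁] N := (ψN.liftBaseChange R).restrictScalars R₁ ∘ₗ (TensorProduct.comm R₁ N₁ R).toLinearMap
  let ΘM : M₁ ⊗[R₁] R →ₗ[R₁] M := (ψM.liftBaseChange R).restrictScalars R₁ ∘ₗ (TensorProduct.comm R₁ M₁ R).toLinearMap
  have hΘNs : Function.Surjective ΘN := hNs.comp (TensorProduct.comm R₁ N₁ R).surjective
  have hΘMb : Function.Bijective ΘM := hMb.comp (TensorProduct.comm R₁ M₁ R).bijective
  have hcomm : ∀ z, u (ΘN z) = ΘM (AlgebraTensorModule.rTensor R₁ R u₁ z) := fun z => by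
    induction z using TensorProduct.induction_on with
    | zero => simp
    | add a b ha hb => simp only [map_add, ha, hb]
    | tmul x r => simp [ΘN, ΘM, hu, LinearMap.map_smul_of_tower]
  let C₁ := M₁ ⧸ LinearMap.range u₁
  let C := M ⧸ LinearMap.range u
  let c₁ : M₁ →ₗ[P₁] C₁ := (LinearMap.range u₁).mkQ
  have hex : Function.Exact u₁ c₁ := LinearMap.exact_map_mkQ_range u₁
  intro z hz
  obtain ⟨z', rfl⟩ := hΘNs z
  have h0 : AlgebraTensorModule.rTensor R₁ R u₁ z' = 0 := hΘMb.1 (by rw [← hcomm, hz, map_zero])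
  let NW := LocalizedModule W N₁
  let MW := LocalizedModule W M₁
  let CW := LocalizedModule W C₁
  let ℓN : N₁ →ₗ[P₁] NW := LocalizedModule.mkLinearMap W N₁
  let ℓM : M₁ →ₗ[P₁] MW := LocalizedModule.mkLinearMap W M₁
  let uW : NW →ₗ[P₁] MW := IsLocalizedModule.map W ℓN ℓM u₁
  let cW : MW →ₗ[P₁] CW := IsLocalizedModule.map W ℓM (LocalizedModule.mkLinearMap W C₁) c₁
  have hexW : Function.Exact uW cW := IsLocalizedModule.map_exact W ℓN ℓM _ u₁ c₁ hex
  have hcW : Function.Surjective cW :=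
    IsLocalizedModule.map_surjective W ℓM (LocalizedModule.mkLinearMap W C₁) c₁ (Submodule.mkQ_surjective _)
  have huW : Function.Injective uW := by
    rw [injective_iff_map_eq_zero]
    intro x hx
    obtain ⟨⟨x₀, s⟩, rfl⟩ := IsLocalizedModule.mk'_surjective W ℓN x
    simp only [Function.uncurry_apply_pair, uW, IsLocalizedModule.map_mk', IsLocalizedModule.mk'_eq_zero'] at hx
    obtain ⟨⟨_, i, rfl⟩, hi⟩ := hx
    obtain ⟨k, hk⟩ := hker (g ^ i • x₀) (by rw [map_smul]; exact hi)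
    rw [Function.uncurry_apply_pair, IsLocalizedModule.mk'_eq_zero']
    refine ⟨⟨g ^ (k + i), k + i, rfl⟩, ?_⟩
    show g ^ (k + i) • x₀ = 0
    rw [pow_add, mul_smul, hk]
  have hinj : Function.Injective ((uW.restrictScalars R₁).rTensor R) := by
    rw [← LinearMap.lTensor_inj_iff_rTensor_inj]
    exact W4Lib.lTensor_injective_of_flat_quotient (f := uW.restrictScalars R₁) (g := cW.restrictScalars R₁)
      huW hexW hcW R
  let φN := AlgebraTensorModule.rTensor R₁ R ℓN
  have h1 : φN z' = 0 := hinj (by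
    rw [map_zero]
    have : ∀ w, (uW.restrictScalars R₁).rTensor R (φN w) =
        AlgebraTensorModule.rTensor R₁ R ℓM (AlgebraTensorModule.rTensor R₁ R u₁ w) := fun w => by
      induction w using TensorProduct.induction_on with
      | zero => simp
      | add a b ha hb => simp only [map_add, ha, hb]
      | tmul x r => simp [φN, uW, ℓN, ℓM]
    rw [this, h0, map_zero])
  obtain ⟨⟨_, k, rfl⟩, hk⟩ := (IsLocalizedModule.eq_zero_iff W φN).1 h1
  refine ⟨k, ?_⟩
  rw [← map_pow]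
  refine (liftBaseChange_smul φ ψN hψN (g ^ k) z').symm.trans ?_
  show ΘN (g ^ k • z') = 0
  rw [show g ^ k • z' = 0 from hk, map_zero]

/-- Cokernels commute with base change. -/
theorem bijective_coker {N₁ M₁ C₁ N M C : Type u} [AddCommGroup N₁] [Module R₁ N₁]
    [AddCommGroup M₁] [Module R₁ M₁] [AddCommGroup C₁] [Module R₁ C₁]
    [AddCommGroup N] [Module R N] [Module R₁ N] [IsScalarTower R₁ R N]
    [AddCommGroup M] [Module R M] [Module R₁ M] [IsScalarTower R₁ R M]
    [AddCommGroup C] [Module R C] [Module R₁ C] [IsScalarTower R₁ R C]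
    (ψN : N₁ →ₗ[R₁] N) (hNs : Function.Surjective (ψN.liftBaseChange R))
    (ψM : M₁ →ₗ[R₁] M) (hMb : Function.Bijective (ψM.liftBaseChange R)) (ψC : C₁ →ₗ[R₁] C)
    (u₁ : N₁ →ₗ[R₁] M₁) (c₁ : M₁ →ₗ[R₁] C₁) (h₁ : Function.Exact u₁ c₁) (hc₁ : Function.Surjective c₁)
    (u : N →ₗ[R] M) (c : M →ₗ[R] C) (h : Function.Exact u c) (hc : Function.Surjective c)
    (hu : ∀ x, u (ψN x) = ψM (u₁ x)) (hψC : ∀ x, ψC (c₁ x) = c (ψM x)) :
    Function.Bijective (ψC.liftBaseChange R) := by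
  have hcM : ∀ w, ψC.liftBaseChange R (c₁.lTensor R w) = c (ψM.liftBaseChange R w) := fun w => by
    induction w using TensorProduct.induction_on with
    | zero => simp
    | add a b ha hb => simp only [map_add, ha, hb]
    | tmul r x => simp [hψC]
  have huN : ∀ w, ψM.liftBaseChange R (u₁.lTensor R w) = u (ψN.liftBaseChange R w) := fun w => by
    induction w using TensorProduct.induction_on with
    | zero => simp
    | add a b ha hb => simp only [map_add, ha, hb]
    | tmul r x => simp [hu]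
  refine ⟨(injective_iff_map_eq_zero _).2 fun w hw => ?_, fun x => ?_⟩
  · obtain ⟨w, rfl⟩ := LinearMap.lTensor_surjective R hc₁ w
    rw [hcM] at hw
    obtain ⟨z, hz⟩ := (h _).1 hw
    obtain ⟨z, rfl⟩ := hNs z
    rw [← huN] at hz
    rw [← hMb.1 hz]
    exact (lTensor_exact R h₁ hc₁).apply_apply_eq_zero z
  · obtain ⟨m, rfl⟩ := hc x
    obtain ⟨w, rfl⟩ := hMb.2 m
    exact ⟨c₁.lTensor R w, hcM w⟩

/-- Flatness near a point is stable under base change. -/
theorem flat_baseChange_away {C₁ C : Type u} [AddCommGroup C₁] [Module R₁ C₁] [Module P₁ C₁] [IsScalarTower R₁ P₁ C₁]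
    [AddCommGroup C] [Module R C] [Module P C] [IsScalarTower R P C] [Module R₁ C] [IsScalarTower R₁ R C]
    (ψC : C₁ →ₗ[R₁] C) (hψ : ∀ (p : P₁) (x : C₁), ψC (p • x) = φ p • ψC x)
    (hb : Function.Bijective (ψC.liftBaseChange R)) (W : Submonoid P₁)
    (hflat : Module.Flat R₁ (LocalizedModule W C₁)) :
    Module.Flat R (LocalizedModule (W.map φ) C) := by
  rw [FlatModel.flat_localized_iff (W.map φ) (LocalizedModule.mkLinearMap _ C)]
  intro J y hy
  let incl : ↥(J.restrictScalars R₁) →ₗ[R₁] R := (J.restrictScalars R₁).subtype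
  let ψJ : C₁ →ₗ[R₁] ↥(J.restrictScalars R₁) →ₗ[R₁] C ⊗[R] J :=
    { toFun := fun x =>
        { toFun := fun j => ψC x ⊗ₜ[R] (⟨j.1, j.2⟩ : J)
          map_add' := fun j j' => by rw [← tmul_add]; rfl
          map_smul' := fun r j => by rw [RingHom.id_apply, ← tmul_smul]; rfl }
      map_add' := fun x x' => LinearMap.ext fun j => by
        show ψC (x + x') ⊗ₜ[R] (⟨j.1, j.2⟩ : J) = _
        rw [map_add, add_tmul]; rfl
      map_smul' := fun r x => LinearMap.ext fun j => by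
        show ψC (r • x) ⊗ₜ[R] (⟨j.1, j.2⟩ : J) = r • (ψC x ⊗ₜ[R] (⟨j.1, j.2⟩ : J))
        rw [map_smul, smul_tmul'] }
  let ΘJ : C₁ ⊗[R₁] ↥(J.restrictScalars R₁) →ₗ[R₁] C ⊗[R] J := TensorProduct.lift ψJ
  have hsurj : Function.Surjective ΘJ := by
    intro w
    induction w using TensorProduct.induction_on with
    | zero => exact ⟨0, map_zero _⟩
    | add a b ha hb =>
      obtain ⟨a, rfl⟩ := ha; obtain ⟨b, rfl⟩ := hb
      exact ⟨a + b, map_add _ _ _⟩
    | tmul x j =>
      obtain ⟨m, rfl⟩ := hb.2 x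
      induction m using TensorProduct.induction_on with
      | zero => exact ⟨0, by simp⟩
      | add a b ha hb =>
        obtain ⟨a', ha⟩ := ha; obtain ⟨b', hb⟩ := hb
        exact ⟨a' + b', by rw [map_add, ha, hb, map_add, add_tmul]⟩
      | tmul r m =>
        refine ⟨m ⊗ₜ ⟨r * (j : R), J.mul_mem_left r j.2⟩, ?_⟩
        rw [LinearMap.liftBaseChange_tmul, smul_tmul]
        rfl
  obtain ⟨y₁, rfl⟩ := hsurj y
  let ΘC : C₁ ⊗[R₁] R →ₗ[R₁] C := (ψC.liftBaseChange R).restrictScalars R₁ ∘ₗ (TensorProduct.comm R₁ C₁ R).toLinearMap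
  have hΘC : Function.Injective ΘC := hb.1.comp (TensorProduct.comm R₁ C₁ R).injective
  have hcmp : ∀ w, TensorProduct.rid R C (J.subtype.lTensor C (ΘJ w)) = ΘC (incl.lTensor C₁ w) := fun w => by
    induction w using TensorProduct.induction_on with
    | zero => simp
    | add a b ha hb => simp only [map_add, ha, hb]
    | tmul x j => simp [ΘJ, ψJ, ΘC, incl]
  have h0 : incl.lTensor C₁ y₁ = 0 := hΘC (by rw [← hcmp, hy, map_zero, map_zero])
  let ℓC : C₁ →ₗ[P₁] LocalizedModule W C₁ := LocalizedModule.mkLinearMap W C₁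
  let φC := AlgebraTensorModule.rTensor R₁ ↥(J.restrictScalars R₁) ℓC
  have h1 : φC y₁ = 0 := Module.Flat.lTensor_preserves_injective_linearMap (M := LocalizedModule W C₁) incl
    Subtype.val_injective (by
      rw [map_zero]
      have : ∀ w, incl.lTensor (LocalizedModule W C₁) (φC w) =
          AlgebraTensorModule.rTensor R₁ R ℓC (incl.lTensor C₁ w) := fun w => by
        induction w using TensorProduct.induction_on with
        | zero => simp
        | add a b ha hb => simp only [map_add, ha, hb]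
        | tmul x r => simp [φC]
      rw [this, h0, map_zero])
  obtain ⟨⟨p, hp⟩, hk⟩ := (IsLocalizedModule.eq_zero_iff W φC).1 h1
  refine ⟨φ p, ⟨p, hp, rfl⟩, ?_⟩
  have hsm : ∀ (p : P₁) w, ΘJ (p • w) = φ p • ΘJ w := fun p w => by
    induction w using TensorProduct.induction_on with
    | zero => simp
    | add a b ha hb => simp only [smul_add, map_add, ha, hb]
    | tmul x j =>
      show ψC (p • x) ⊗ₜ[R] _ = φ p • (ψC x ⊗ₜ[R] _)
      rw [hψ, smul_tmul']
  rw [← hsm, show p • y₁ = 0 from hk, map_zero]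

set_option maxHeartbeats 1000000 in
/-- Kernel killed and cokernel flat after inverting `g`, after any base change. -/
theorem transfer {N₁ M₁ N M : Type u} [AddCommGroup N₁] [Module R₁ N₁] [Module P₁ N₁] [IsScalarTower R₁ P₁ N₁]
    [AddCommGroup M₁] [Module R₁ M₁] [Module P₁ M₁] [IsScalarTower R₁ P₁ M₁]
    [AddCommGroup N] [Module R N] [Module P N] [IsScalarTower R P N] [Module R₁ N] [IsScalarTower R₁ R N]
    [AddCommGroup M] [Module R M] [Module P M] [IsScalarTower R P M] [Module R₁ M] [IsScalarTower R₁ R M]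
    (ψN : N₁ →ₗ[R₁] N) (hψN : ∀ (p : P₁) (x : N₁), ψN (p • x) = φ p • ψN x)
    (hNs : Function.Surjective (ψN.liftBaseChange R))
    (ψM : M₁ →ₗ[R₁] M) (hψM : ∀ (p : P₁) (x : M₁), ψM (p • x) = φ p • ψM x)
    (hMb : Function.Bijective (ψM.liftBaseChange R))
    (u₁ : N₁ →ₗ[P₁] M₁) (u : N →ₗ[P] M) (hu : ∀ x, u (ψN x) = ψM (u₁ x)) (g : P₁)
    (hker : ∀ x, u₁ x = 0 → ∃ k : ℕ, g ^ k • x = 0)
    (hflat : Module.Flat R₁ (LocalizedModule (Submonoid.powers g) (M₁ ⧸ LinearMap.range u₁))) :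
    (∀ z, u z = 0 → ∃ k : ℕ, φ g ^ k • z = 0) ∧
      Module.Flat R (LocalizedModule (Submonoid.powers (φ g)) (M ⧸ LinearMap.range u)) := by
  refine ⟨transfer_ker φ ψN hψN hNs ψM hψM hMb u₁ u hu g hker hflat, ?_⟩
  let C₁ := M₁ ⧸ LinearMap.range u₁
  let C := M ⧸ LinearMap.range u
  let c : M →ₗ[P] C := (LinearMap.range u).mkQ
  letI : Module R₁ C := Module.compHom C (algebraMap R₁ R)
  haveI : IsScalarTower R₁ R C := .of_algebraMap_smul fun _ _ => rfl
  let c' : M →ₗ[R₁] C := (c.restrictScalars R).restrictScalars R₁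
  let ψC : C₁ →ₗ[R₁] C := ((LinearMap.range u₁).restrictScalars R₁).liftQ (c' ∘ₗ ψM) (by
      rintro _ ⟨x, rfl⟩
      show c (ψM (u₁ x)) = 0
      rw [← hu]
      exact (Submodule.Quotient.mk_eq_zero _).2 ⟨ψN x, rfl⟩) ∘ₗ
    (Submodule.Quotient.restrictScalarsEquiv R₁ (LinearMap.range u₁)).symm.toLinearMap
  have hψC : ∀ x, ψC (Submodule.Quotient.mk x) = c (ψM x) := fun x => rfl
  have hψ : ∀ (p : P₁) (x : C₁), ψC (p • x) = φ p • ψC x := fun p x => by
    obtain ⟨m, rfl⟩ := Submodule.mkQ_surjective _ x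
    rw [← map_smul, Submodule.mkQ_apply, Submodule.mkQ_apply, hψC, hψC, hψM, map_smul]
  let uR₁ : N₁ →ₗ[R₁] M₁ := u₁.restrictScalars R₁
  let cR₁ : M₁ →ₗ[R₁] C₁ := (LinearMap.range u₁).mkQ.restrictScalars R₁
  let uR : N →ₗ[R] M := u.restrictScalars R
  let cR : M →ₗ[R] C := c.restrictScalars R
  have e₁ : Function.Exact uR₁ cR₁ := LinearMap.exact_map_mkQ_range u₁
  have s₁ : Function.Surjective cR₁ := (LinearMap.range u₁).mkQ_surjective
  have e₂ : Function.Exact uR cR := LinearMap.exact_map_mkQ_range u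
  have s₂ : Function.Surjective cR := (LinearMap.range u).mkQ_surjective
  have hb : Function.Bijective (ψC.liftBaseChange R) :=
    bijective_coker (N₁ := N₁) (M₁ := M₁) (C₁ := C₁) (N := N) (M := M) (C := C) ψN hNs ψM hMb ψC uR₁ cR₁ e₁ s₁
      uR cR e₂ s₂ hu (fun x => rfl)
  have h := flat_baseChange_away φ ψC hψ hb (Submonoid.powers g) hflat
  rw [Submonoid.map_powers] at h
  exact h

end Groth.Agent.FibInj
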