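import Groth.Agent.FibInj.Noetherian
import Groth.Agent.FibInj.Transfer
import Groth.Agent.FibInj.Descent
import Groth.Agent.MultTypeLib.FlatStage
import Groth.Agent.FlatSyz5.Basic

/-!
# Maps injective on a fibre, over a polynomial ring with arbitrary base
-/

set_option autoImplicit false
set_option linter.style.haveILetI false

universe u

open TensorProduct MvPolynomial Groth.Agent.FlatModel

namespace Groth.Agent.FibInj

set_option synthInstance.maxHeartbeats 200000

theorem CJ_le_smul {R : Type u} [CommRing R] {a n : ℕ} (p : Ideal R) :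
    CJ a n p ≤ (p.map C : Ideal (MvPolynomial (Fin n) R)) • ⊤ := by
  intro v hv
  rw [pi_eq_sum_univ' v]
  exact Submodule.sum_mem _ fun l _ => Submodule.smul_mem_smul (mem_CJ.1 hv l) trivial

/-- A presented module is the base change of the module presented by the descended relations. -/
theorem exists_model_map {R₁ R : Type u} [CommRing R₁] [CommRing R] [Algebra R₁ R] {a n : ℕ}
    {M : Type u} [AddCommGroup M] [Module R M] [Module (MvPolynomial (Fin n) R) M]
    [IsScalarTower R (MvPolynomial (Fin n) R) M] [Module R₁ M] [IsScalarTower R₁ R M]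
    (K₁ : Submodule (MvPolynomial (Fin n) R₁) (V a n R₁)) (π : V a n R →ₗ[MvPolynomial (Fin n) R] M)
    (hπ : Function.Surjective π) (hker : LinearMap.ker π = KK K₁ R) :
    ∃ ψ : (V a n R₁ ⧸ K₁) →ₗ[R₁] M,
      (∀ v, ψ (Submodule.Quotient.mk v) = π (mapV (algebraMap R₁ R) v)) ∧
      (∀ (p : MvPolynomial (Fin n) R₁) (x : V a n R₁ ⧸ K₁),
        ψ (p • x) = MvPolynomial.map (algebraMap R₁ R) p • ψ x) ∧
      Function.Bijective (ψ.liftBaseChange R) := by
  let q : V a n R₁ →ₗ[R₁] V a n R₁ ⧸ K₁ := K₁.mkQ.restrictScalars R₁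
  let f : V a n R₁ →ₗ[R₁] M := (π.restrictScalars R).restrictScalars R₁ ∘ₗ mapL (R₀ := R₁) R
  let ψ : (V a n R₁ ⧸ K₁) →ₗ[R₁] M := (K₁.restrictScalars R₁).liftQ f (fun x hx => by
      show π (mapV _ x) = 0
      rw [← LinearMap.mem_ker, hker]
      exact mapL_mem_KK K₁ hx) ∘ₗ (Submodule.Quotient.restrictScalarsEquiv R₁ K₁).symm.toLinearMap
  have hψ : ∀ v, ψ (Submodule.Quotient.mk v) = π (mapV (algebraMap R₁ R) v) := fun v => rfl
  have hsm : ∀ (p : MvPolynomial (Fin n) R₁) (x : V a n R₁ ⧸ K₁),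
      ψ (p • x) = MvPolynomial.map (algebraMap R₁ R) p • ψ x := fun p x => by
    obtain ⟨v, rfl⟩ := Submodule.Quotient.mk_surjective _ x
    rw [← Submodule.Quotient.mk_smul, hψ, hψ, mapV_smul, map_smul]
  let θ₀ : V a n R →ₗ[R] R ⊗[R₁] (V a n R₁ ⧸ K₁) :=
    (B a n R).constr R fun e => (1 : R) ⊗ₜ[R₁] q (B a n R₁ e)
  have hθ₀ : ∀ x, θ₀ (mapL (R₀ := R₁) R x) = (1 : R) ⊗ₜ[R₁] q x := by
    intro x
    refine LinearMap.congr_fun (f := (θ₀.restrictScalars R₁).comp (mapL (R₀ := R₁) R))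
      (g := (TensorProduct.mk R₁ R _ 1).comp q) ((B a n R₁).ext fun e => ?_) x
    simp only [LinearMap.comp_apply, LinearMap.restrictScalars_apply, mapL_B]
    exact Module.Basis.constr_basis _ _ _ _
  have hθK : ∀ x ∈ KK K₁ R, θ₀ x = 0 := fun x hx => by
    have hx' : x ∈ ((⊤ : Ideal R).map C : Ideal (MvPolynomial (Fin n) R)) • KK K₁ R := by
      rw [Ideal.map_top, Submodule.top_smul]; exact hx
    refine (AddSubmonoid.closure_le (S := (LinearMap.ker θ₀).toAddSubmonoid)).2 ?_ (smul_KK_le_closure K₁ ⊤ hx')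
    rintro _ ⟨r, -, w, hw, rfl⟩
    show θ₀ (r • mapL R w) = 0
    rw [map_smul, hθ₀, show q w = 0 from (Submodule.Quotient.mk_eq_zero _).2 hw, tmul_zero, smul_zero]
  have hcomp : ∀ x : V a n R, ψ.liftBaseChange R (θ₀ x) = π x := by
    intro x
    refine LinearMap.congr_fun (f := (ψ.liftBaseChange R).comp θ₀) (g := π.restrictScalars R)
      ((B a n R).ext fun e => ?_) x
    simp only [LinearMap.comp_apply, θ₀, Module.Basis.constr_basis, LinearMap.liftBaseChange_tmul, one_smul,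
      LinearMap.restrictScalars_apply]
    show π (mapL R (B a n R₁ e)) = π (B a n R e)
    rw [mapL_B]
  have hθs : Function.Surjective θ₀ := by
    intro z
    induction z using TensorProduct.induction_on with
    | zero => exact ⟨0, map_zero _⟩
    | add x y hx hy =>
      obtain ⟨x, rfl⟩ := hx; obtain ⟨y, rfl⟩ := hy
      exact ⟨x + y, map_add _ _ _⟩
    | tmul r m =>
      obtain ⟨v, rfl⟩ := Submodule.Quotient.mk_surjective _ m
      refine ⟨r • mapL (R₀ := R₁) R v, ?_⟩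
      rw [map_smul, hθ₀, smul_tmul', smul_eq_mul, mul_one]
      rfl
  refine ⟨ψ, hψ, hsm, (injective_iff_map_eq_zero _).2 fun z hz => ?_, fun m => ?_⟩
  · obtain ⟨x, rfl⟩ := hθs z
    rw [hcomp, ← LinearMap.mem_ker, hker] at hz
    exact hθK x hz
  · obtain ⟨x, rfl⟩ := hπ m
    exact ⟨θ₀ x, hcomp x⟩

/-- The form of `PtFlat` for the tautological presentation. -/
theorem ptFlat_iff_flat {R₀ R : Type u} [CommRing R₀] [CommRing R] [Algebra R₀ R] {a n : ℕ}
    (K₀ : Submodule (MvPolynomial (Fin n) R₀) (V a n R₀)) {M : Type u} [AddCommGroup M] [Module R M]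
    [Module (MvPolynomial (Fin n) R) M] [IsScalarTower R (MvPolynomial (Fin n) R) M]
    (π : V a n R →ₗ[MvPolynomial (Fin n) R] M) (hπ : Function.Surjective π) (hker : LinearMap.ker π = KK K₀ R)
    (W : Submonoid (MvPolynomial (Fin n) R)) :
    PtFlat K₀ R W ↔ Module.Flat R (LocalizedModule W M) := by
  rw [flat_localized_iff W (LocalizedModule.mkLinearMap W M), ptFlat_iff K₀ W π hπ hker]

theorem exists_lift_vec {R₀ R : Type u} [CommRing R₀] [CommRing R] [Algebra R₀ R] {a n : ℕ} (v : V a n R)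
    (h : ∀ i, ((v i).coeffs : Set R) ⊆ Set.range (algebraMap R₀ R)) :
    ∃ w : V a n R₀, mapV (algebraMap R₀ R) w = v := by
  choose w hw using fun i => MvPolynomial.mem_range_map_iff_coeffs_subset.2 (h i)
  exact ⟨w, funext hw⟩

set_option maxHeartbeats 1000000 in
/-- From a noetherian model flat at the point. -/
theorem exists_flat_coker_of_model {R₁ R : Type u} [CommRing R₁] [IsNoetherianRing R₁] [CommRing R] [Algebra R₁ R]
    {a b n : ℕ} {N M : Type u}
    [AddCommGroup N] [Module R N] [Module (MvPolynomial (Fin n) R) N] [IsScalarTower R (MvPolynomial (Fin n) R) N]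
    [Module R₁ N] [IsScalarTower R₁ R N]
    [AddCommGroup M] [Module R M] [Module (MvPolynomial (Fin n) R) M] [IsScalarTower R (MvPolynomial (Fin n) R) M]
    [Module R₁ M] [IsScalarTower R₁ R M]
    (u : N →ₗ[MvPolynomial (Fin n) R] M) (Q : Ideal (MvPolynomial (Fin n) R)) [Q.IsPrime]
    (hinj : FibreInjective (Q.comap (algebraMap R (MvPolynomial (Fin n) R))) Q.primeCompl u)
    (L₁ : Submodule (MvPolynomial (Fin n) R₁) (V b n R₁)) (K₁ : Submodule (MvPolynomial (Fin n) R₁) (V a n R₁))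
    (πN : V b n R →ₗ[MvPolynomial (Fin n) R] N) (hπN : Function.Surjective πN) (hkerN : LinearMap.ker πN = KK L₁ R)
    (πM : V a n R →ₗ[MvPolynomial (Fin n) R] M) (hπM : Function.Surjective πM) (hkerM : LinearMap.ker πM = KK K₁ R)
    (ũ₁ : V b n R₁ →ₗ[MvPolynomial (Fin n) R₁] V a n R₁) (hLK : L₁ ≤ K₁.comap ũ₁)
    (hcomm : ∀ v, u (πN (mapV (algebraMap R₁ R) v)) = πM (mapV (algebraMap R₁ R) (ũ₁ v)))
    (hflat₁ : Module.Flat R₁
      (LocalizedModule (Q.comap (MvPolynomial.map (algebraMap R₁ R))).primeCompl (V a n R₁ ⧸ K₁))) :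
    ∃ g ∉ Q, (∀ x, u x = 0 → ∃ k : ℕ, g ^ k • x = 0) ∧
      Module.Flat R (LocalizedModule (Submonoid.powers g) (M ⧸ LinearMap.range u)) := by
  let P := MvPolynomial (Fin n) R
  let P₁ := MvPolynomial (Fin n) R₁
  let φ : P₁ →+* P := MvPolynomial.map (algebraMap R₁ R)
  let Q₁ : Ideal P₁ := Q.comap φ
  obtain ⟨ψN, hψN, hψNs, hψNb⟩ := exists_model_map (R := R) L₁ πN hπN hkerN
  obtain ⟨ψM, hψM, hψMs, hψMb⟩ := exists_model_map (R := R) K₁ πM hπM hkerM
  let u₁ : (V b n R₁ ⧸ L₁) →ₗ[P₁] (V a n R₁ ⧸ K₁) := Submodule.mapQ L₁ K₁ ũ₁ hLK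
  have hu : ∀ x, u (ψN x) = ψM (u₁ x) := fun x => by
    obtain ⟨v, rfl⟩ := Submodule.Quotient.mk_surjective _ x
    show u (ψN (Submodule.Quotient.mk v)) = ψM (Submodule.Quotient.mk (ũ₁ v))
    rw [hψN, hψM, hcomm]
  have hinj₁ : FibreInjective (Q₁.comap (algebraMap R₁ P₁)) Q₁.primeCompl u₁ := by
    intro x hx
    obtain ⟨v, rfl⟩ := Submodule.Quotient.mk_surjective _ x
    obtain ⟨s, hs, hsx⟩ := hx
    have hp : ∀ z ∈ ((Q₁.comap (algebraMap R₁ P₁)).map (algebraMap R₁ P₁) • ⊤ : Submodule P₁ (V a n R₁ ⧸ K₁)),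
        ψM z ∈ ((Q.comap (algebraMap R P)).map (algebraMap R P) • ⊤ : Submodule P M) := fun z hz => by
      refine Submodule.smul_induction_on hz (fun r hr z _ => ?_) fun y z hy hz => by rw [map_add]; exact add_mem hy hz
      rw [hψMs]
      refine Submodule.smul_mem_smul ?_ trivial
      refine (Ideal.map_le_iff_le_comap.2 ?_ :
        _ ≤ Ideal.comap φ ((Q.comap (algebraMap R P)).map (algebraMap R P))) hr
      intro c hc
      have e : φ (algebraMap R₁ P₁ c) = algebraMap R P (algebraMap R₁ R c) := MvPolynomial.map_C _ c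
      rw [Ideal.mem_comap, Ideal.mem_comap, e]
      refine Ideal.mem_map_of_mem _ ?_
      rw [Ideal.mem_comap, Ideal.mem_comap, e] at hc
      exact hc
    obtain ⟨t, ht, htx⟩ := hinj (ψN (Submodule.Quotient.mk v))
      ⟨φ s, hs, by rw [hu, ← hψMs]; exact hp _ hsx⟩
    have hmem : t • mapV (algebraMap R₁ R) v ∈
        Submodule.span P (mapV (algebraMap R₁ R) '' (L₁ : Set (V b n R₁))) ⊔ CJ b n (Q.comap C) := by
      rw [hψN, ← map_smul] at htx
      rw [MvPolynomial.algebraMap_eq] at htx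
      have h1 : t • mapV (algebraMap R₁ R) v ∈ (((Q.comap C).map C : Ideal P) • ⊤ : Submodule P (V b n R)) ⊔ LinearMap.ker πN := by
        rw [← Submodule.comap_map_eq, Submodule.mem_comap, Submodule.map_smul'', Submodule.map_top,
          LinearMap.range_eq_top.2 hπN]
        exact htx
      rw [sup_comm, hkerN] at h1
      exact sup_le_sup le_rfl (smul_le_CJ (Q.comap C) ⊤) h1
    obtain ⟨t₁, ht₁, ht₁x⟩ := exists_smul_mem_fibre Q (L₁ : Set (V b n R₁)) v ⟨t, ht, hmem⟩
    refine ⟨t₁, ht₁, ?_⟩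
    rw [← Submodule.Quotient.mk_smul]
    obtain ⟨y, hy, z, hz, hyz⟩ := Submodule.mem_sup.1 ht₁x
    rw [Submodule.span_eq] at hy
    rw [← hyz, Submodule.Quotient.mk_add, (Submodule.Quotient.mk_eq_zero _).2 hy, zero_add, ← Submodule.mkQ_apply]
    have h2 := Submodule.mem_map_of_mem (f := L₁.mkQ) (CJ_le_smul _ hz)
    rw [Submodule.map_smul''] at h2
    rw [MvPolynomial.algebraMap_eq]
    exact Submodule.smul_mono le_rfl le_top h2
  obtain ⟨g, hg, hker₁, hflatC⟩ := flat_coker_noetherian u₁ Q₁ hflat₁ hinj₁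
  exact ⟨φ g, hg, transfer φ ψN hψNs hψNb.2 ψM hψMs hψMb u₁ u hu g hker₁ hflatC⟩


set_option maxHeartbeats 1000000 in
/-- The polynomial case. -/
theorem exists_flat_coker_poly {R : Type u} [CommRing R] {n : ℕ} {N M : Type u}
    [AddCommGroup N] [Module R N] [Module (MvPolynomial (Fin n) R) N] [IsScalarTower R (MvPolynomial (Fin n) R) N]
    [Module.FinitePresentation (MvPolynomial (Fin n) R) N]
    [AddCommGroup M] [Module R M] [Module (MvPolynomial (Fin n) R) M] [IsScalarTower R (MvPolynomial (Fin n) R) M]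
    [Module.FinitePresentation (MvPolynomial (Fin n) R) M]
    (u : N →ₗ[MvPolynomial (Fin n) R] M) (Q : Ideal (MvPolynomial (Fin n) R)) [Q.IsPrime]
    (hflat : Module.Flat R (LocalizedModule Q.primeCompl M))
    (hinj : FibreInjective (Q.comap (algebraMap R (MvPolynomial (Fin n) R))) Q.primeCompl u) :
    ∃ g ∉ Q, (∀ x, u x = 0 → ∃ k : ℕ, g ^ k • x = 0) ∧
      Module.Flat R (LocalizedModule (Submonoid.powers g) (M ⧸ LinearMap.range u)) := by
  classical
  let P := MvPolynomial (Fin n) R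
  obtain ⟨b, πN, hπN⟩ := Module.Finite.exists_fin' P N
  obtain ⟨a, πM, hπM⟩ := Module.Finite.exists_fin' P M
  obtain ⟨GN, hGN⟩ := Module.FinitePresentation.fg_ker πN hπN
  obtain ⟨GM, hGM⟩ := Module.FinitePresentation.fg_ker πM hπM
  choose k hk using fun j : Fin b => hπM (u (πN (Pi.single j 1)))
  let ũ : V b n R →ₗ[P] V a n R := Fintype.linearCombination P k
  have hũ : ∀ v, πM (ũ v) = u (πN v) := fun v => by
    conv_rhs => rw [pi_eq_sum_univ' v]
    simp only [ũ, Fintype.linearCombination_apply, map_sum, map_smul, hk]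
  have hcoef : ∀ v ∈ GN, ∃ f : V a n R → P, ∑ w ∈ GM, f w • w = ũ v := fun v hv => by
    have : ũ v ∈ Submodule.span P (GM : Set (V a n R)) := by
      rw [hGM, LinearMap.mem_ker, hũ, hGN.le (Submodule.subset_span hv), map_zero]
    obtain ⟨f, -, hf⟩ := Submodule.mem_span_finset.1 this
    exact ⟨f, hf⟩
  choose! f hf using hcoef
  -- the coefficient ring
  let cf : Finset R := (GN.biUnion fun v => Finset.univ.biUnion fun i => (v i).coeffs) ∪
    ((GM.biUnion fun v => Finset.univ.biUnion fun i => (v i).coeffs) ∪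
    ((Finset.univ.biUnion fun j => Finset.univ.biUnion fun i => (k j i).coeffs) ∪
    (GN.biUnion fun v => GM.biUnion fun w => (f v w).coeffs)))
  let R₀ : Subalgebra ℤ R := Algebra.adjoin ℤ (cf : Set R)
  haveI : Algebra.FiniteType ℤ R₀ := (Subalgebra.fg_iff_finiteType R₀).1 (Subalgebra.fg_adjoin_finset cf)
  haveI : IsNoetherianRing R₀ := Algebra.FiniteType.isNoetherianRing ℤ R₀
  have hcf : ∀ x ∈ cf, x ∈ Set.range (algebraMap R₀ R) := fun x hx => ⟨⟨x, Algebra.subset_adjoin hx⟩, rfl⟩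
  have hGNd : ∀ v ∈ GN, ∃ w : V b n R₀, mapV (algebraMap R₀ R) w = v := fun v hv =>
    exists_lift_vec v fun i x hx => hcf x (Finset.mem_union_left _
      (Finset.mem_biUnion.2 ⟨v, hv, Finset.mem_biUnion.2 ⟨i, Finset.mem_univ _, hx⟩⟩))
  have hGMd : ∀ v ∈ GM, ∃ w : V a n R₀, mapV (algebraMap R₀ R) w = v := fun v hv =>
    exists_lift_vec v fun i x hx => hcf x (Finset.mem_union_right _ (Finset.mem_union_left _
      (Finset.mem_biUnion.2 ⟨v, hv, Finset.mem_biUnion.2 ⟨i, Finset.mem_univ _, hx⟩⟩)))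
  have hkd : ∀ j, ∃ w : V a n R₀, mapV (algebraMap R₀ R) w = k j := fun j =>
    exists_lift_vec (k j) fun i x hx => hcf x (Finset.mem_union_right _ (Finset.mem_union_right _
      (Finset.mem_union_left _ (Finset.mem_biUnion.2 ⟨j, Finset.mem_univ _, Finset.mem_biUnion.2 ⟨i, Finset.mem_univ _, hx⟩⟩))))
  have hfd : ∀ v ∈ GN, ∀ w ∈ GM, ∃ z : MvPolynomial (Fin n) R₀, MvPolynomial.map (algebraMap R₀ R) z = f v w :=
    fun v hv w hw => MvPolynomial.mem_range_map_iff_coeffs_subset.2 fun x hx => hcf x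
      (Finset.mem_union_right _ (Finset.mem_union_right _ (Finset.mem_union_right _
        (Finset.mem_biUnion.2 ⟨v, hv, Finset.mem_biUnion.2 ⟨w, hw, hx⟩⟩))))
  choose! lN hlN using hGNd
  choose! lM hlM using hGMd
  choose k₀ hk₀ using hkd
  choose! f₀ hf₀ using hfd
  let L₀ : Submodule (MvPolynomial (Fin n) R₀) (V b n R₀) := Submodule.span _ (lN '' GN)
  let K₀ : Submodule (MvPolynomial (Fin n) R₀) (V a n R₀) := Submodule.span _ (lM '' GM)
  have hkerN : LinearMap.ker πN = KK L₀ R := by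
    apply le_antisymm
    · rw [← hGN, Submodule.span_le]
      intro v hv
      exact Submodule.subset_span ⟨lN v, Submodule.subset_span ⟨v, hv, rfl⟩, hlN v hv⟩
    · rw [KK, Submodule.span_le]
      rintro _ ⟨w, hw, rfl⟩
      refine Submodule.span_le.2 ?_ (mapV_mem_span (algebraMap R₀ R) hw)
      rintro _ ⟨w, ⟨v, hv, rfl⟩, rfl⟩
      rw [hlN v hv]
      exact hGN.le (Submodule.subset_span hv)
  have hkerM : LinearMap.ker πM = KK K₀ R := by
    apply le_antisymm
    · rw [← hGM, Submodule.span_le]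
      intro v hv
      exact Submodule.subset_span ⟨lM v, Submodule.subset_span ⟨v, hv, rfl⟩, hlM v hv⟩
    · rw [KK, Submodule.span_le]
      rintro _ ⟨w, hw, rfl⟩
      refine Submodule.span_le.2 ?_ (mapV_mem_span (algebraMap R₀ R) hw)
      rintro _ ⟨w, ⟨v, hv, rfl⟩, rfl⟩
      rw [hlM v hv]
      exact hGM.le (Submodule.subset_span hv)
  -- a noetherian stage where `M` is flat at the point
  obtain ⟨R₁, g₀, hR₁, hg₀, hstage⟩ :=
    MultTypeLib.exists_ptFlat_stage K₀ Q ((ptFlat_iff_flat K₀ πM hπM hkerM Q.primeCompl).2 hflat)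
  haveI : Algebra.FiniteType R₀ R₁ := (Subalgebra.fg_iff_finiteType R₁).1 hR₁
  haveI : IsNoetherianRing R₁ := Algebra.FiniteType.isNoetherianRing R₀ R₁
  let P₁ := MvPolynomial (Fin n) R₁
  let φ : P₁ →+* P := MvPolynomial.map (algebraMap R₁ R)
  let Q₁ : Ideal P₁ := Q.comap φ
  have hpt₁ : PtFlat K₀ R₁ Q₁.primeCompl := hstage R₁ le_rfl hR₁ Q₁ (by
    intro h
    apply hg₀
    rw [Ideal.mem_comap] at h
    have e : MvPolynomial.map (Subalgebra.inclusion (le_refl R₁)).toRingHom g₀ = g₀ := MvPolynomial.map_id g₀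
    rw [e] at h
    exact h)
  have hflat₁ : Module.Flat R₁ (LocalizedModule Q₁.primeCompl (V a n R₁ ⧸ KK K₀ R₁)) :=
    (ptFlat_iff_flat K₀ (KK K₀ R₁).mkQ (Submodule.mkQ_surjective _) (Submodule.ker_mkQ _) _).1 hpt₁
  let L₁ := KK L₀ R₁
  let K₁ := KK K₀ R₁
  let k₁ : Fin b → V a n R₁ := fun j => mapV (algebraMap R₀ R₁) (k₀ j)
  let ũ₁ : V b n R₁ →ₗ[P₁] V a n R₁ := Fintype.linearCombination P₁ k₁
  have hcomm : ∀ v, ũ (mapV (algebraMap R₁ R) v) = mapV (algebraMap R₁ R) (ũ₁ v) := fun v => by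
    simp only [ũ, ũ₁, k₁]
    rw [FlatSyz5.mapV_linearCombination]
    refine congrArg (fun kk => Fintype.linearCombination P kk (mapV (algebraMap R₁ R) v)) (funext fun j => ?_)
    rw [mapV_mapV, ← IsScalarTower.algebraMap_eq]
    exact (hk₀ j).symm
  have hLK : L₁ ≤ K₁.comap ũ₁ := by
    rw [show L₁ = Submodule.span P₁ (mapV (algebraMap R₀ R₁) '' L₀) from rfl, Submodule.span_le]
    rintro _ ⟨w, hw, rfl⟩
    refine Submodule.span_le.2 ?_ (mapV_mem_span (algebraMap R₀ R₁) hw)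
    rintro _ ⟨w, ⟨v, hv, rfl⟩, rfl⟩
    show ũ₁ (mapV (algebraMap R₀ R₁) (lN v)) ∈ K₁
    have heq : Fintype.linearCombination (MvPolynomial (Fin n) R₀) k₀ (lN v) = ∑ w ∈ GM, f₀ v w • lM w := by
      apply mapV_injective (g := algebraMap R₀ R) Subtype.val_injective
      rw [FlatSyz5.mapV_linearCombination, hlN v hv, show (fun j => mapV (algebraMap R₀ R) (k₀ j)) = k from funext hk₀]
      show ũ v = mapVHom (algebraMap R₀ R) _
      rw [map_sum, ← hf v hv]
      refine Finset.sum_congr rfl fun w hw => ?_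
      show _ = mapV _ _
      rw [mapV_smul, hf₀ v hv w hw, hlM w hw]
    simp only [ũ₁, k₁]
    rw [← FlatSyz5.mapV_linearCombination, heq]
    exact mapL_mem_KK K₀ (Submodule.sum_mem _ fun w hw =>
      Submodule.smul_mem _ _ (Submodule.subset_span ⟨w, hw, rfl⟩))
  have hKK : ∀ {c : ℕ} (X : Submodule (MvPolynomial (Fin n) R₀) (V c n R₀)), KK X R = KK (KK X R₁) R := by
    intro c X
    apply le_antisymm
    · rw [KK, Submodule.span_le]
      rintro _ ⟨w, hw, rfl⟩
      exact Submodule.subset_span ⟨mapV (algebraMap R₀ R₁) w, Submodule.subset_span ⟨w, hw, rfl⟩, by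
        rw [mapV_mapV, ← IsScalarTower.algebraMap_eq]⟩
    · rw [KK, Submodule.span_le]
      rintro _ ⟨x, hx, rfl⟩
      refine Submodule.span_le.2 ?_ (mapV_mem_span (algebraMap R₁ R) hx)
      rintro _ ⟨_, ⟨w, hw, rfl⟩, rfl⟩
      rw [mapV_mapV, ← IsScalarTower.algebraMap_eq]
      exact Submodule.subset_span ⟨w, hw, rfl⟩
  haveI : IsScalarTower R₁ R N := .of_algebraMap_smul fun _ _ => rfl
  haveI : IsScalarTower R₁ R M := .of_algebraMap_smul fun _ _ => rfl
  exact exists_flat_coker_of_model u Q hinj L₁ K₁ πN hπN (hkerN.trans (hKK L₀)) πM hπM (hkerM.trans (hKK K₀))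
    ũ₁ hLK (fun v => by rw [← hcomm, hũ]) hflat₁

end Groth.Agent.FibInj
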