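import Groth.Agent.FibInj.Sheaf
import Groth.Agent.FibInj.Regular

/-!
# Regular sequences on the fibres of a sheaf
-/

set_option autoImplicit false
set_option linter.style.haveILetI false

universe u

open CategoryTheory AlgebraicGeometry Groth.Agent

namespace Groth.Agent.FibInj

variable {X Y : Scheme.{u}} (f : X ⟶ Y) (F : X.Modules) (hF : Coh.IsQCoh F) (x : X)
  {U : X.Opens} (hU : IsAffineOpen U) {V : Y.Opens} (hV : IsAffineOpen V) (hle : U ≤ f ⁻¹ᵁ V) (hx : x ∈ U)

include hF hU hV hle hx in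
theorem flat_localized_of_isFlatOverAt (h : FlatMod.IsFlatOverAt f F x) :
    letI : Algebra Γ(Y, V) Γ(X, U) := (f.appLE V U hle).hom.toAlgebra
    letI : Module Γ(Y, V) Γ(F, U) := Module.compHom _ (f.appLE V U hle).hom
    haveI : IsScalarTower Γ(Y, V) Γ(X, U) Γ(F, U) := IsScalarTower.of_algebraMap_smul fun _ _ => rfl
    Module.Flat Γ(Y, V) (LocalizedModule (hU.primeIdealOf ⟨x, hx⟩).asIdeal.primeCompl Γ(F, U)) := by
  letI : Algebra Γ(Y, V) Γ(X, U) := (f.appLE V U hle).hom.toAlgebra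
  letI : Module Γ(Y, V) Γ(F, U) := Module.compHom _ (f.appLE V U hle).hom
  haveI : IsScalarTower Γ(Y, V) Γ(X, U) Γ(F, U) := IsScalarTower.of_algebraMap_smul fun _ _ => rfl
  have h := (QCoh.isFlatOverAt_iff f hV hle hx).1 h
  letI := QCoh.stalkModule F hx
  letI : Module Γ(Y, V) (F.presheaf.stalk x) :=
    Module.compHom _ ((f.appLE V U hle) ≫ X.presheaf.germ U x hx).hom
  haveI : IsScalarTower Γ(Y, V) Γ(X, U) (F.presheaf.stalk x) :=
    IsScalarTower.of_algebraMap_smul fun _ _ => rfl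
  haveI := QCoh.isLocalizedModule_germLin hF hU hx
  haveI := h
  exact Module.Flat.of_linearEquiv ((IsLocalizedModule.iso (hU.primeIdealOf ⟨x, hx⟩).asIdeal.primeCompl
    (QCoh.germLin F hx)).restrictScalars Γ(Y, V))

include hV hle hx in
theorem map_maximalIdeal_stalk :
    letI : Algebra Γ(Y, V) Γ(X, U) := (f.appLE V U hle).hom.toAlgebra
    letI := QCoh.stalkAlg (X := X) hx
    (IsLocalRing.maximalIdeal ↑(Y.presheaf.stalk (f x))).map (f.stalkMap x).hom =
      (((hU.primeIdealOf ⟨x, hx⟩).asIdeal.comap (algebraMap Γ(Y, V) Γ(X, U))).map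
        (algebraMap Γ(Y, V) Γ(X, U))).map (algebraMap Γ(X, U) (X.presheaf.stalk x)) := by
  letI : Algebra Γ(Y, V) Γ(X, U) := (f.appLE V U hle).hom.toAlgebra
  letI := QCoh.stalkAlg (X := X) hx
  haveI := QCoh.isLocalization_stalk' hU hx
  let q := (hU.primeIdealOf ⟨x, hx⟩).asIdeal
  let O := X.presheaf.stalk x
  letI := QCoh.stalkAlg (X := Y) (hle hx)
  haveI := QCoh.isLocalization_stalk' hV (hle hx)
  have hsq : (f.stalkMap x).hom.comp (Y.presheaf.germ V (f x) (hle hx)).hom =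
      (algebraMap Γ(X, U) O).comp (algebraMap Γ(Y, V) Γ(X, U)) := RingHom.ext fun a => by
    show f.stalkMap x (Y.presheaf.germ V (f x) (hle hx) a) = X.presheaf.germ U x hx (f.appLE V U hle a)
    rw [Scheme.Hom.germ_stalkMap_apply f V x (hle hx) a]
    exact (X.presheaf.germ_res_apply (homOfLE hle) x hx _).symm
  have hp : q.comap (algebraMap Γ(Y, V) Γ(X, U)) = (hV.primeIdealOf ⟨f x, hle hx⟩).asIdeal := by
    have h1 : q = (IsLocalRing.maximalIdeal O).comap (algebraMap Γ(X, U) O) :=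
      (IsLocalization.AtPrime.under_maximalIdeal O q).symm
    rw [h1, Ideal.comap_comap, ← hsq, ← Ideal.comap_comap, IsLocalRing.maximalIdeal_comap]
    exact IsLocalization.AtPrime.under_maximalIdeal (Y.presheaf.stalk (f x)) _
  show _ = ((q.comap _).map _).map _
  rw [hp, ← IsLocalization.AtPrime.map_eq_maximalIdeal (hV.primeIdealOf ⟨f x, hle hx⟩).asIdeal
    (Y.presheaf.stalk (f x)), Ideal.map_map, Ideal.map_map, ← hsq]
  rfl

set_option maxHeartbeats 800000 in
include hF hU hV hle hx in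
theorem isWeaklyRegular_fibre_iff {n : ℕ} (g : Fin n → Γ(X, ⊤)) :
    letI : Algebra Γ(Y, V) Γ(X, U) := (f.appLE V U hle).hom.toAlgebra
    RingTheory.Sequence.IsWeaklyRegular
      (↑(F.presheaf.stalk x) ⧸ (Ideal.map (f.stalkMap x).hom (IsLocalRing.maximalIdeal ↑(Y.presheaf.stalk (f x))) •
        (⊤ : Submodule ↑(X.presheaf.stalk x) ↑(F.presheaf.stalk x))))
      (List.ofFn fun i => (X.presheaf.germ ⊤ x trivial) (g i)) ↔
    ∀ i (h : i < (List.ofFn fun i => X.presheaf.map (homOfLE (le_top : U ≤ ⊤)).op (g i)).length),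
      FibreInjective ((hU.primeIdealOf ⟨x, hx⟩).asIdeal.comap (algebraMap Γ(Y, V) Γ(X, U)))
        (hU.primeIdealOf ⟨x, hx⟩).asIdeal.primeCompl
        (LinearMap.lsmul Γ(X, U) (Γ(F, U) ⧸
          (Ideal.ofList ((List.ofFn fun i => X.presheaf.map (homOfLE (le_top : U ≤ ⊤)).op (g i)).take i) • ⊤ :
            Submodule Γ(X, U) Γ(F, U)))
          (List.ofFn fun i => X.presheaf.map (homOfLE (le_top : U ≤ ⊤)).op (g i))[i]) := by
  letI : Algebra Γ(Y, V) Γ(X, U) := (f.appLE V U hle).hom.toAlgebra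
  letI := QCoh.stalkModule F hx
  letI := QCoh.stalkAlg (X := X) hx
  haveI := QCoh.isLocalization_stalk' hU hx
  haveI := QCoh.isLocalizedModule_germLin hF hU hx
  haveI := QCoh.isScalarTower_stalk F hx
  let O := X.presheaf.stalk x
  let q := (hU.primeIdealOf ⟨x, hx⟩).asIdeal
  let gU : List Γ(X, U) := List.ofFn fun i => X.presheaf.map (homOfLE (le_top : U ≤ ⊤)).op (g i)
  let J : Ideal O := Ideal.map (f.stalkMap x).hom (IsLocalRing.maximalIdeal ↑(Y.presheaf.stalk (f x)))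
  let Q := F.presheaf.stalk x ⧸ (J • ⊤ : Submodule O (F.presheaf.stalk x))
  let φ : Γ(F, U) →ₗ[Γ(X, U)] Q :=
    ((J • ⊤ : Submodule O (F.presheaf.stalk x)).mkQ.restrictScalars Γ(X, U)) ∘ₗ QCoh.germLin F hx
  have hsurj : ∀ y, ∃ s ∈ q.primeCompl, ∃ m, s • y = φ m := fun y => by
    obtain ⟨z, rfl⟩ := Submodule.Quotient.mk_surjective _ y
    obtain ⟨⟨m, s⟩, hms⟩ := IsLocalizedModule.surj q.primeCompl (QCoh.germLin F hx) z
    exact ⟨s, s.2, m, congrArg (Submodule.Quotient.mk (p := (J • ⊤ : Submodule O (F.presheaf.stalk x)))) hms⟩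
  have hker : ∀ m, φ m = 0 ↔ ∃ s ∈ q.primeCompl,
      s • m ∈ ((q.comap (algebraMap Γ(Y, V) Γ(X, U))).map (algebraMap Γ(Y, V) Γ(X, U)) • ⊤ :
        Submodule Γ(X, U) Γ(F, U)) := fun m => by
    refine (Submodule.Quotient.mk_eq_zero _).trans ?_
    show QCoh.germLin F hx m ∈ (J • ⊤ : Submodule O (F.presheaf.stalk x)) ↔ _
    rw [show J = _ from map_maximalIdeal_stalk f x hU hV hle hx]
    exact mem_smul_localized (B := O) q.primeCompl (QCoh.germLin F hx) _ m
  have hunit : ∀ (I : Ideal Γ(X, U)) (y : Q), ∀ s ∈ q.primeCompl,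
      s • y ∈ (I • ⊤ : Submodule Γ(X, U) Q) → y ∈ (I • ⊤ : Submodule Γ(X, U) Q) := fun I y s hs hy => by
    obtain ⟨v, hv⟩ := (IsLocalization.map_units O (⟨s, hs⟩ : q.primeCompl)).exists_left_inv
    have h := map_mem_smul_top ((LinearMap.lsmul O Q v).restrictScalars Γ(X, U)) I hy
    simp only [LinearMap.coe_restrictScalars, LinearMap.lsmul_apply] at h
    rwa [← algebraMap_smul O s y, smul_smul, hv, one_smul] at h
  rw [show (List.ofFn fun i => (X.presheaf.germ ⊤ x trivial) (g i)) = gU.map (algebraMap Γ(X, U) O) by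
    rw [List.map_ofFn]
    congr 1
    ext i
    exact (X.presheaf.germ_res_apply (homOfLE le_top) x hx (g i)).symm,
    RingTheory.Sequence.isWeaklyRegular_map_algebraMap_iff, RingTheory.Sequence.isWeaklyRegular_iff]
  exact forall₂_congr fun i h =>
    ⟨fun hr => fibreInjective_quot q Q φ hsurj hker _ _ hr,
      fun hf => isSMulRegular_of_fibreInjective q Q φ hsurj hker hunit _ _ hf⟩

end Groth.Agent.FibInj
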