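import Groth.Agent.FibInj.Affine
import Groth.Agent.FibInj.Colim
import Groth.Agent.MorLib.BaseChangeLim
import Groth.Agent.FlatSyz5.Colim
import Groth.Agent.ModStLib.FibGrpd
import Groth.Agent.S4851

/-!
# Injective with flat cokernel at a point descends to a stage
-/

set_option autoImplicit false
set_option linter.style.haveILetI false

universe u

open CategoryTheory CategoryTheory.Limits AlgebraicGeometry Groth.Agent

namespace Groth.Agent.FibInj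

/-- Transport along compatible open immersions. -/
theorem good_transport {X X' Y Y' X₀ : Scheme.{u}} (f : X ⟶ Y) (f' : X' ⟶ Y') (a : X' ⟶ X) [IsOpenImmersion a]
    (b : Y' ⟶ Y) [IsOpenImmersion b] (hw : f' ≫ b = a ≫ f) (q : X ⟶ X₀) (q' : X' ⟶ X₀) (hq : q' = a ≫ q)
    {F G : X₀.Modules} (h : F ⟶ G) (x : X') :
    Good f' ((Scheme.Modules.pullback q').map h) x ↔ Good f ((Scheme.Modules.pullback q).map h) (a x) := by
  rw [← good_restrict_iff f a, ← hw, good_comp_iff f' b]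
  exact good_iff_of_arrowIso f' (FlatLimHx.pullbackEqArrow hq h ≪≫ (FlatLimHx.pullbackCompArrow a q h).symm) x

/-- A square over a restricted square. -/
theorem isPullback_restrict {X X₀ Y Y₀ X' X₀' Y' Y₀' : Scheme.{u}} {qX : X ⟶ X₀} {f : X ⟶ Y} {f₀ : X₀ ⟶ Y₀}
    {qY : Y ⟶ Y₀} (hX : IsPullback qX f f₀ qY) {qX' : X' ⟶ X₀'} {a : X' ⟶ X} {a₀ : X₀' ⟶ X₀}
    (hA : IsPullback qX' a a₀ qX) {qY' : Y' ⟶ Y₀'} {b : Y' ⟶ Y} {b₀ : Y₀' ⟶ Y₀}
    (hB : IsPullback qY' b b₀ qY) (f₀' : X₀' ⟶ Y₀') (hw : f₀' ≫ b₀ = a₀ ≫ f₀) :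
    ∃ f' : X' ⟶ Y', IsPullback qX' f' f₀' qY' ∧ f' ≫ b = a ≫ f := by
  have h1 : IsPullback qX' (a ≫ f) (a₀ ≫ f₀) qY := hA.paste_vert hX
  rw [← hw] at h1
  refine ⟨hB.lift (qX' ≫ f₀') (a ≫ f) (by rw [Category.assoc, h1.w]), ?_, hB.lift_snd _ _ _⟩
  exact IsPullback.of_bot' h1 hB

variable {I : Type u} [SmallCategory I] [IsCofiltered I] {D : I ⥤ Scheme.{u}} (c : Cone D) (i₀ : I)

/-- The property holds at all base changes to a suitable stage. -/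
def Descends {X₀ Y₀ : Scheme.{u}} (f₀ : X₀ ⟶ Y₀) (g₀ : Y₀ ⟶ D.obj i₀) {X Y : Scheme.{u}} (f : X ⟶ Y)
    (g : Y ⟶ c.pt) (qY : Y ⟶ Y₀) (qX : X ⟶ X₀) {F G : X₀.Modules} (h : F ⟶ G) (x : X) : Prop :=
  ∃ (i : I) (φ : i ⟶ i₀), ∀ (Xi Yi : Scheme.{u}) (fi : Xi ⟶ Yi) (gi : Yi ⟶ D.obj i) (pY : Yi ⟶ Y₀)
    (pX : Xi ⟶ X₀) (vY : Y ⟶ Yi) (vX : X ⟶ Xi), IsPullback pY gi g₀ (D.map φ) → IsPullback pX fi f₀ pY →
    vY ≫ pY = qY → vY ≫ gi = g ≫ c.π.app i → vX ≫ pX = qX → vX ≫ fi = f ≫ vY →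
      Good fi ((Scheme.Modules.pullback pX).map h) (vX x)

variable {c i₀} {X₀ Y₀ : Scheme.{u}} {f₀ : X₀ ⟶ Y₀} {g₀ : Y₀ ⟶ D.obj i₀} {X Y : Scheme.{u}} {f : X ⟶ Y}
  {g : Y ⟶ c.pt} {qY : Y ⟶ Y₀} {qX : X ⟶ X₀} (hY : IsPullback qY g g₀ (c.π.app i₀))
  (hX : IsPullback qX f f₀ qY) {F G : X₀.Modules} (h : F ⟶ G)

/-- The morphism from the limit to a base change. -/
noncomputable def liftY {i : I} {φ : i ⟶ i₀} {Yi : Scheme.{u}} {gi : Yi ⟶ D.obj i} {pY : Yi ⟶ Y₀}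
    (hi : IsPullback pY gi g₀ (D.map φ)) : Y ⟶ Yi :=
  hi.lift qY (g ≫ c.π.app i) (by rw [Category.assoc, c.w]; exact hY.w)

/-- The morphism from the limit to a base change, upstairs. -/
noncomputable def liftX {i : I} {φ : i ⟶ i₀} {Yi Xi : Scheme.{u}} {gi : Yi ⟶ D.obj i} {pY : Yi ⟶ Y₀}
    (hi : IsPullback pY gi g₀ (D.map φ)) {fi : Xi ⟶ Yi} {pX : Xi ⟶ X₀} (hXi : IsPullback pX fi f₀ pY) : X ⟶ Xi :=
  hXi.lift qX (f ≫ liftY hY hi) (by rw [Category.assoc, liftY, IsPullback.lift_fst]; exact hX.w)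

/-- It is enough to check one base change. -/
theorem descends_of_good {i : I} {φ : i ⟶ i₀} {Xi Yi : Scheme.{u}} {fi : Xi ⟶ Yi} {gi : Yi ⟶ D.obj i}
    {pY : Yi ⟶ Y₀} {pX : Xi ⟶ X₀} {vY : Y ⟶ Yi} {vX : X ⟶ Xi} (hi : IsPullback pY gi g₀ (D.map φ))
    (hXi : IsPullback pX fi f₀ pY) (h1 : vY ≫ pY = qY) (h2 : vY ≫ gi = g ≫ c.π.app i) (h3 : vX ≫ pX = qX)
    (h4 : vX ≫ fi = f ≫ vY) (x : X) (hg : Good fi ((Scheme.Modules.pullback pX).map h) (vX x)) :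
    Descends c i₀ f₀ g₀ f g qY qX h x := by
  refine ⟨i, φ, fun Xj Yj fj gj pY' pX' vY' vX' hj hXj h1' h2' h3' h4' => ?_⟩
  let b : Yj ⟶ Yi := (hj.isoIsPullback _ _ hi).hom
  have hb1 : b ≫ pY = pY' := hj.isoIsPullback_hom_fst _ _ hi
  have hb2 : b ≫ gi = gj := hj.isoIsPullback_hom_snd _ _ hi
  let a : Xj ⟶ Xi := hXi.lift pX' (fj ≫ b) (by rw [Category.assoc, hb1]; exact hXj.w)
  have ha1 : a ≫ pX = pX' := hXi.lift_fst _ _ _
  have ha2 : a ≫ fi = fj ≫ b := hXi.lift_snd _ _ _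
  have hsq : IsPullback a fj fi b := IsPullback.of_right (by rw [ha1, hb1]; exact hXj) ha2 hXi
  haveI : IsOpenImmersion a := MorphismProperty.of_isPullback hsq.flip inferInstance
  have hvY : vY' ≫ b = vY := hi.hom_ext (by rw [Category.assoc, hb1, h1', h1]) (by rw [Category.assoc, hb2, h2', h2])
  have hvX : vX' ≫ a = vX := hXi.hom_ext (by rw [Category.assoc, ha1, h3', h3])
    (by rw [Category.assoc, ha2, ← Category.assoc, h4', Category.assoc, hvY, h4])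
  rw [good_transport fi fj a b ha2.symm pX pX' ha1.symm h, ← Scheme.Hom.comp_apply, hvX]
  exact hg

/-- Descent from a later stage. -/
theorem descends_restart {i : I} {φ : i ⟶ i₀} {Xi Yi : Scheme.{u}} {fi : Xi ⟶ Yi} {gi : Yi ⟶ D.obj i}
    {pY : Yi ⟶ Y₀} {pX : Xi ⟶ X₀} {vY : Y ⟶ Yi} {vX : X ⟶ Xi} (hi : IsPullback pY gi g₀ (D.map φ))
    (hXi : IsPullback pX fi f₀ pY) (h1 : vY ≫ pY = qY) (h2 : vY ≫ gi = g ≫ c.π.app i)
    (h3 : vX ≫ pX = qX) (h4 : vX ≫ fi = f ≫ vY)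
    (x : X) (hd : Descends c i fi gi f g vY vX ((Scheme.Modules.pullback pX).map h) x) :
    Descends c i₀ f₀ g₀ f g qY qX h x := by
  obtain ⟨k, ψ, hk⟩ := hd
  refine ⟨k, ψ ≫ φ, fun Xk Yk fk gk pY' pX' vY' vX' hk1 hk2 h1' h2' h3' h4' => ?_⟩
  let b : Yk ⟶ Yi := hi.lift pY' (gk ≫ D.map ψ) (by rw [Category.assoc, ← D.map_comp]; exact hk1.w)
  have hb1 : b ≫ pY = pY' := hi.lift_fst _ _ _
  have hb2 : b ≫ gi = gk ≫ D.map ψ := hi.lift_snd _ _ _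
  let a : Xk ⟶ Xi := hXi.lift pX' (fk ≫ b) (by rw [Category.assoc, hb1]; exact hk2.w)
  have ha1 : a ≫ pX = pX' := hXi.lift_fst _ _ _
  have ha2 : a ≫ fi = fk ≫ b := hXi.lift_snd _ _ _
  have hkY : IsPullback b gk gi (D.map ψ) :=
    IsPullback.of_right (by rw [hb1, ← D.map_comp]; exact hk1) hb2 hi
  have hkX : IsPullback a fk fi b := IsPullback.of_right (by rw [ha1, hb1]; exact hk2) ha2 hXi
  have hvY : vY' ≫ b = vY := hi.hom_ext (by rw [Category.assoc, hb1, h1', h1]) (by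
    rw [Category.assoc, hb2, ← Category.assoc, h2', Category.assoc, c.w]
    exact h2.symm)
  have hvX : vX' ≫ a = vX := hXi.hom_ext (by rw [Category.assoc, ha1, h3', h3])
    (by rw [Category.assoc, ha2, ← Category.assoc, h4', Category.assoc, hvY]; exact h4.symm)
  have h5 := hk Xk Yk fk gk b a vY' vX' hkY hkX hvY h2' hvX h4'
  exact (good_iff_of_arrowIso fk (FlatLimHx.pullbackCompArrow a pX h ≪≫ FlatLimHx.pullbackEqArrow ha1 h) _).1 h5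

end Groth.Agent.FibInj
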