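import Groth.Agent.FibInj.BaseChange
import Groth.Agent.QCoh.Serre

/-!
# Flatness as injectivity with flat cokernel of the zero map
-/

set_option autoImplicit false
set_option linter.style.haveILetI false

universe u

open CategoryTheory CategoryTheory.Limits AlgebraicGeometry Groth.Agent

namespace Groth.Agent.FibInj

variable {X Y : Scheme.{u}}

theorem good_iff_isFlatOverAt (q : X ⟶ Y) {N M : X.Modules} (h : N ⟶ M) (hN : IsZero N) (z : X) :
    Good q h z ↔ FlatMod.IsFlatOverAt q M z := by
  obtain rfl : h = 0 := hN.eq_of_src _ _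
  let e : cokernel (0 : N ⟶ M) ≅ M := cokernelZeroIsoTarget
  refine ⟨fun hg => GrFlat5.isFlatOverAt_of_iso q e z hg.2,
    fun hf => ⟨(injective_iff_mono _ z).2 ?_, GrFlat5.isFlatOverAt_of_iso q e.symm z hf⟩⟩
  exact ((DerSch.stalkFunctor X z).map_isZero hN).mono _

theorem isFP_of_isZero {M : X.Modules} (h : IsZero M) : CohB1.IsFP M := by
  refine QCoh.isFP_of_finitePresentation (QCoh.isQCoh_of_isZero h) (fun U : X.affineOpens => (U : X.Opens))
    (iSup_affineOpens_eq_top _) (fun U => U.2) fun U => ?_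
  haveI : Subsingleton Γ(M, (U : X.Opens)) := subsingleton_of_forall_eq 0 fun x => by
    have := congrArg (fun φ : M ⟶ M => φ.app U x) (h.eq_of_src (𝟙 M) 0)
    simpa using this
  infer_instance

theorem isZero_pullback {X' : Scheme.{u}} (q : X' ⟶ X) {M : X.Modules} (h : IsZero M) :
    IsZero ((Scheme.Modules.pullback q).obj M) := by
  haveI : (Scheme.Modules.pullback q).IsLeftAdjoint :=
    (Scheme.Modules.pullbackPushforwardAdjunction q).isLeftAdjoint
  exact (Scheme.Modules.pullback q).map_isZero h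

/-- The flat locus of a finitely presented module is open. -/
theorem isOpen_isFlatOverAt (q : X ⟶ Y) [LocallyOfFinitePresentation q] {M : X.Modules} (hM : CohB1.IsFP M) :
    IsOpen {x | FlatMod.IsFlatOverAt q M x} := by
  obtain ⟨Z, hZ⟩ := HasZeroObject.zero (C := X.Modules)
  haveI := QCoh.isQCoh_of_isFP hM
  haveI := QCoh.isQCoh_of_isZero hZ
  have h := Groth.Agent.S4851.result q M Z hM (isFP_of_isZero hZ) (0 : Z ⟶ M)
  have e : {x | FlatMod.IsFlatOverAt q M x} = {x | Good q (0 : Z ⟶ M) x} :=
    Set.ext fun x => (good_iff_isFlatOverAt q (0 : Z ⟶ M) hZ x).symm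
  rw [e]
  exact h

end Groth.Agent.FibInj
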